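import Groth.Agent.DCompLib.Module
import Mathlib.RingTheory.Finiteness.Ideal
import Mathlib.RingTheory.Henselian

/-!
# Derived complete modules for finitely generated ideals
-/

set_option autoImplicit false

universe u v

namespace Groth.Agent.DCompLib

variable {A : Type u} [CommRing A] {M : Type v} [AddCommGroup M] [Module A M]

theorem solution_expand {f : A} {x y : ℕ → M} (hx : ∀ n, x n = y n + f • x (n + 1)) (K : ℕ) :
    x 0 = (∑ k ∈ Finset.range K, f ^ k • y k) + f ^ K • x K := by
  induction K with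
  | zero => simp
  | succ K ih =>
    rw [ih, Finset.sum_range_succ, add_assoc]
    conv_lhs => rw [hx K]
    rw [smul_add, smul_smul, ← pow_succ]

theorem exists_sum_of_mem {ι : Type*} (s : Finset ι) (g : ι → A) {x : M}
    (hx : x ∈ Ideal.span (g '' (s : Set ι)) • (⊤ : Submodule A M)) :
    ∃ y : ι → M, x = ∑ i ∈ s, g i • y i := by
  classical
  refine Submodule.smul_induction_on hx (fun r hr m _ => ?_) ?_
  · induction hr using Submodule.span_induction with
    | mem r hr =>
      obtain ⟨i, hi, rfl⟩ := hr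
      exact ⟨fun j => if j = i then m else 0, by
        simp [smul_ite, Finset.mem_coe.1 hi]⟩
    | zero => exact ⟨fun _ => 0, by simp⟩
    | add r r' _ _ h h' =>
      obtain ⟨y, hy⟩ := h
      obtain ⟨y', hy'⟩ := h'
      exact ⟨y + y', by simp [add_smul, hy, hy', smul_add, Finset.sum_add_distrib]⟩
    | smul c r _ h =>
      obtain ⟨y, hy⟩ := h
      exact ⟨fun i => c • y i, by
        rw [smul_assoc, hy, Finset.smul_sum]
        exact Finset.sum_congr rfl fun i _ => smul_comm c (g i) (y i)⟩
  · rintro _ _ ⟨y, rfl⟩ ⟨y', rfl⟩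
    exact ⟨y + y', by simp [smul_add, Finset.sum_add_distrib]⟩

theorem exists_pow_le_span_pows (s : Finset A) (k : ℕ) :
    ∃ N, Ideal.span (s : Set A) ^ N ≤ Ideal.span ((fun f => f ^ k) '' (s : Set A)) := by
  refine Ideal.exists_pow_le_of_le_radical_of_fg ?_ ⟨s, rfl⟩
  exact Ideal.span_le.2 fun f hf => ⟨k, Ideal.subset_span ⟨f, hf, rfl⟩⟩

variable (A M) in
/-- Completeness at the generators gives surjectivity of the map to the adic completion. -/
theorem surjective_of (s : Finset A) (hs : ∀ f ∈ s, FComplete f M) :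
    Function.Surjective (AdicCompletion.of (Ideal.span (s : Set A)) M) := by
  intro z
  obtain ⟨m, hm⟩ := AdicCompletion.mk_surjective (Ideal.span (s : Set A)) M z
  choose N hN using exists_pow_le_span_pows s
  let N' : ℕ → ℕ := fun k => (∑ j ∈ Finset.range (k + 1), (N j + 1))
  have hN'1 : ∀ k, k ≤ N' k := fun k => by
    refine (le_of_le_of_eq (Nat.le_succ k) (by simp : k + 1 = ∑ _j ∈ Finset.range (k + 1), 1)).trans ?_
    exact Finset.sum_le_sum fun j _ => Nat.le_add_left 1 _
  have hN'2 : ∀ k, N k ≤ N' k := fun k => (Nat.le_succ _).trans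
    (Finset.single_le_sum (f := fun j => N j + 1) (fun _ _ => Nat.zero_le _) (Finset.self_mem_range_succ k))
  have hN'3 : ∀ k, N' k ≤ N' (k + 1) := fun k =>
    Finset.sum_le_sum_of_subset (by simp)
  have hd : ∀ k, ∃ y : A → M, m.1 (N' (k + 1)) - m.1 (N' k) = ∑ f ∈ s, f ^ k • y f := fun k => by
    refine exists_sum_of_mem s (fun f => f ^ k) ?_
    have h := SModEq.sub_mem.1 (m.2 (hN'3 k)).symm
    exact Submodule.smul_mono_left (I := Ideal.span (s : Set A) ^ N' k) (N := (⊤ : Submodule A M))
      ((Ideal.pow_le_pow_right (hN'2 k)).trans (hN k)) h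
  choose y hy using hd
  have hz : ∀ f ∈ s, ∃ x : ℕ → M, ∀ n, x n = y n f + f • x (n + 1) :=
    fun f hf => (hs f hf).exists_solution fun n => y n f
  choose! x hx using hz
  refine ⟨m.1 (N' 0) + ∑ f ∈ s, x f 0, AdicCompletion.ext fun K => ?_⟩
  rw [AdicCompletion.of_apply]
  rw [← hm, AdicCompletion.mk_apply_coe]
  rw [Submodule.mkQ_apply, Submodule.mkQ_apply]
  rw [Submodule.Quotient.eq]
  have htel : m.1 (N' K) = m.1 (N' 0) + ∑ k ∈ Finset.range K, ∑ f ∈ s, f ^ k • y k f := by
    have := Finset.sum_range_sub (fun k => m.1 (N' k)) K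
    simp only [hy] at this
    rw [this]; abel
  have e : m.1 (N' 0) + ∑ f ∈ s, x f 0 - m.1 K =
      (m.1 (N' K) - m.1 K) + ∑ f ∈ s, f ^ K • x f K := by
    rw [htel, Finset.sum_comm,
      Finset.sum_congr rfl fun f hf => solution_expand (hx f hf) K, Finset.sum_add_distrib]
    abel
  rw [e]
  refine add_mem (SModEq.sub_mem.1 (m.2 (hN'1 K)).symm) (Submodule.sum_mem _ fun f hf => ?_)
  exact Submodule.smul_mem_smul (Ideal.pow_mem_pow (Ideal.subset_span hf) K) trivial

/-- `⋂ fⁿA` kills `⋂ fⁿM`. -/
theorem smul_eq_zero_of_mem_iInf {f : A} (h : FComplete f M) {a : A}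
    (ha : a ∈ ⨅ n : ℕ, Ideal.span {f ^ n}) {y : M} (hy : ∀ n : ℕ, ∃ m, f ^ n • m = y) :
    a • y = 0 := by
  choose b hb using fun n => Ideal.mem_span_singleton'.1 ((Submodule.mem_iInf _).1 ha n)
  have hx := h.eq_zero (x := fun n => b n • y) fun n => by
    obtain ⟨m, rfl⟩ := hy n
    rw [smul_smul, smul_smul, smul_smul]
    congr 1
    have h' := (hb n).trans (hb (n + 1)).symm
    rw [pow_succ] at h'
    linear_combination h'
  have h0 := congrFun hx 0
  rwa [show b 0 = a by rw [← hb 0, pow_zero, mul_one]] at h0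

/-- A derived complete module all of whose elements are killed by powers of `f` is killed by one. -/
theorem exists_pow_smul_eq_zero {f : A} (h : FComplete f M)
    (ht : ∀ m : M, ∃ n, f ^ n • m = 0) : ∃ N : ℕ, ∀ m : M, f ^ N • m = 0 := by
  classical
  by_contra hcon
  push Not at hcon
  have hne : ∀ N, ∃ m : M, ∀ m' : M, f ^ N • m ≠ f ^ (N + 1) • m' := by
    intro N
    by_contra hc
    push Not at hc
    choose d hd using hc
    let u : M →ₗ[A] M := LinearMap.lsmul A M (f ^ N)
    have hsub := (h.range h u).subsingleton_of_smul_surjective fun r => by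
      obtain ⟨m, hm⟩ := r.2
      refine ⟨⟨u (d m), d m, rfl⟩, Subtype.ext ?_⟩
      change f • (f ^ N • d m) = (r : M)
      rw [smul_smul, ← pow_succ', ← hd, ← hm]
      rfl
    obtain ⟨m, hm⟩ := hcon N
    exact hm (congrArg Subtype.val (Subsingleton.elim (⟨u m, m, rfl⟩ : LinearMap.range u) 0))
  choose w hw using hne
  -- partial sums of the series
  let step : ℕ → M → M := fun N s =>
    if ∃ m' : M, f ^ N • s = f ^ (2 * N + 1) • m' then s + f ^ N • w (2 * N) else s
  let S : ℕ → M := fun n => Nat.rec 0 step n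
  let y : ℕ → M := fun N =>
    if ∃ m' : M, f ^ N • S N = f ^ (2 * N + 1) • m' then w (2 * N) else 0
  have hS : ∀ n, S n = ∑ k ∈ Finset.range n, f ^ k • y k := by
    intro n
    induction n with
    | zero => rfl
    | succ n ih =>
      rw [Finset.sum_range_succ, ← ih]
      change step n (S n) = _
      simp only [step, y]
      split_ifs <;> simp
  obtain ⟨x, hx⟩ := h.exists_solution y
  obtain ⟨N, hN⟩ := ht (x 0)
  rw [solution_expand hx (N + 1), ← hS, smul_add, smul_smul, ← pow_add] at hN
  change f ^ N • step N (S N) + _ = 0 at hN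
  simp only [step] at hN
  rw [show N + (N + 1) = 2 * N + 1 by omega] at hN
  split_ifs at hN with hc
  · obtain ⟨m', hm'⟩ := hc
    rw [smul_add, smul_smul, ← pow_add, ← two_mul, hm', add_right_comm, ← smul_add] at hN
    exact hw (2 * N) (-(m' + x (N + 1))) (by
      rw [smul_neg]; exact eq_neg_of_add_eq_zero_right hN)
  · exact hc ⟨-x (N + 1), by rw [smul_neg]; exact eq_neg_of_add_eq_zero_left hN⟩

theorem exists_ideal_pow_smul_eq_bot (s : Finset A) (hs : ∀ f ∈ s, FComplete f M)
    (ht : ∀ m : M, ∀ f ∈ s, ∃ n, f ^ n • m = 0) :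
    ∃ n : ℕ, Ideal.span (s : Set A) ^ n • (⊤ : Submodule A M) = ⊥ := by
  classical
  choose! N hN using fun f (hf : f ∈ s) => exists_pow_smul_eq_zero (hs f hf) fun m => ht m f hf
  obtain ⟨n, hn⟩ := exists_pow_le_span_pows s (s.sup N)
  refine ⟨n, eq_bot_iff.2 ((Submodule.smul_mono_left hn).trans fun x hx => ?_)⟩
  obtain ⟨y, rfl⟩ := exists_sum_of_mem s (fun f => f ^ s.sup N) hx
  refine Submodule.sum_mem _ fun f hf => ?_
  rw [Submodule.mem_bot, ← Nat.sub_add_cancel (Finset.le_sup (f := N) hf), pow_add, mul_smul,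
    hN f hf, smul_zero]

/-- The quotient of a derived complete ring by a power of an element. -/
theorem fComplete_quotient_span (f g : A) (hg : FComplete g A) :
    FComplete (Ideal.Quotient.mk (Ideal.span {f}) g) (A ⧸ Ideal.span {f}) := by
  have h := hg.coker hg (LinearMap.lsmul A A f)
  have e : LinearMap.range (LinearMap.lsmul A A f) = Ideal.span {f} := by
    ext x
    simp [Ideal.mem_span_singleton', mul_comm]
  rw [e] at h
  exact (fComplete_iff_of_smul _ fun m => rfl).1 h

/-- The intersection of the powers of the ideal of a derived complete ring is nilpotent. -/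
theorem iInf_pow_pow_two_pow (s : List A) :
    ∀ (B : Type u) [CommRing B] (φ : A →+* B), (∀ f ∈ s, FComplete (φ f) B) →
      (⨅ n : ℕ, Ideal.span (φ '' {f | f ∈ s}) ^ n) ^ (2 ^ s.length) = ⊥ := by
  induction s with
  | nil =>
    intro B _ φ _
    simp only [List.length_nil, pow_zero, pow_one]
    rw [eq_bot_iff]
    refine (iInf_le _ 1).trans ?_
    simp
  | cons f l ih =>
    intro B _ φ hc
    let J : Ideal B := ⨅ n : ℕ, Ideal.span (φ '' {g | g ∈ f :: l}) ^ n
    have key : ∀ k : ℕ, J ^ (2 ^ l.length) ≤ Ideal.span {φ f ^ (k + 1)} := by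
      intro k
      let q := Ideal.Quotient.mk (Ideal.span {φ f ^ (k + 1)})
      have h := ih _ (q.comp φ) fun g hg =>
        fComplete_quotient_span _ _ (hc g (List.mem_cons_of_mem _ hg))
      have hker : Ideal.span {φ f ^ (k + 1)} = RingHom.ker q := Ideal.mk_ker.symm
      rw [hker, ← Ideal.map_eq_bot_iff_le_ker, Ideal.map_pow, eq_bot_iff, ← h]
      refine Ideal.pow_right_mono (le_iInf fun n => ?_) _
      refine (Ideal.map_mono (iInf_le _ ((k + 1) + n))).trans ?_
      have hset : φ '' {g | g ∈ f :: l} = {φ f} ∪ φ '' {g | g ∈ l} := by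
        ext x
        simp [eq_comm]
      rw [hset, Ideal.span_union]
      refine (Ideal.map_mono Ideal.sup_pow_add_le_pow_sup_pow).trans ?_
      rw [Ideal.map_sup, sup_le_iff, Ideal.map_pow, Ideal.map_pow, Ideal.map_span, Ideal.map_span,
        Set.image_singleton, Ideal.span_singleton_pow]
      constructor
      · rw [show q (φ f) ^ (k + 1) = 0 from (map_pow q _ _).symm.trans
          (Ideal.Quotient.eq_zero_iff_mem.2 (Ideal.mem_span_singleton_self _))]
        simp
      · rw [Set.image_image]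
        rfl
    have hJ : J ^ (2 ^ l.length) ≤ ⨅ n : ℕ, Ideal.span {φ f ^ n} := le_iInf fun n => by
      cases n with
      | zero => simp
      | succ k => exact key k
    rw [List.length_cons, pow_succ, pow_mul, pow_two, eq_bot_iff]
    refine (Ideal.mul_mono hJ hJ).trans (Ideal.mul_le.2 fun a ha b hb => ?_)
    exact Submodule.mem_bot B |>.2 (smul_eq_zero_of_mem_iInf (hc f (List.mem_cons_self ..)) ha
      fun n => by
        obtain ⟨c, rfl⟩ := Ideal.mem_span_singleton'.1 ((Submodule.mem_iInf _).1 hb n)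
        exact ⟨c, by rw [smul_eq_mul, mul_comm]⟩)

end Groth.Agent.DCompLib
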