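import Groth.Agent.DCompLib.Completion
import Groth.Agent.DerLib.ExactHomology

/-!
# Derived completion and cohomological vanishing
-/

set_option autoImplicit false
set_option linter.style.haveILetI false

universe u

open CategoryTheory CategoryTheory.Limits ZeroObject
open CategoryTheory.Pretriangulated (Triangle)

attribute [local instance] HasDerivedCategory.standard

namespace Groth.Agent.DCompLib

variable {A : Type u} [CommRing A]

/-- Vanishing of cohomology in degree `n`. -/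
def Van (K : Dual.D A) (n : ℤ) : Prop :=
  IsZero ((DerivedCategory.homologyFunctor (ModuleCat.{u} A) n).obj K)

theorem van_iff {K : Dual.D A} {n : ℤ} : Van K n ↔ Subsingleton (Dual.HD A K n) :=
  ⟨fun h => ModuleCat.subsingleton_of_isZero h, fun h => @ModuleCat.isZero_of_subsingleton _ _ _ h⟩

theorem Van.of_iso {K L : Dual.D A} {n : ℤ} (e : K ≅ L) (h : Van K n) : Van L n :=
  IsZero.of_iso h ((DerivedCategory.homologyFunctor (ModuleCat.{u} A) n).mapIso e.symm)

theorem van_coRes {f : A} {K : Dual.D A} {G : Dual.D (Localization.Away f)}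
    (ε : (resD f).obj G ⟶ K) (hε : ∀ X, Function.Bijective fun t : X ⟶ G => (resD f).map t ≫ ε)
    (n : ℤ) (h₀ : Van K n) (h₁ : Van K (n - 1)) : Van ((resD f).obj G) n := by
  let S := Dual.inD (Localization.Away f) (Localization.Away f)
  haveI := van_iff.1 h₀
  haveI := van_iff.1 h₁
  have h := subsingleton_hom_of_fComplete f K n
    (FComplete.of_linearEquiv (hdShiftEquiv K n).symm FComplete.of_subsingleton)
    (FComplete.of_linearEquiv (hdShiftEquiv K (n - 1)).symm FComplete.of_subsingleton)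
  have key : ((resD f).obj (S⟦-n⟧) ⟶ K) ≃ (Dual.inD A (Localization.Away f) ⟶ K⟦n⟧) :=
    (((resD f).commShiftIso (-n)).app S ≪≫
      (shiftFunctor (Dual.D A) (-n)).mapIso (resSingleIso f)).homFromEquiv.trans
        ((shiftEquiv' (Dual.D A) (-n) n (neg_add_cancel n)).toAdjunction.homEquiv _ _)
  have hG : Subsingleton (S ⟶ G⟦n⟧) :=
    subsingleton_of_injective
      (fun g => ((shiftEquiv' (Dual.D (Localization.Away f)) (-n) n (neg_add_cancel n)).toAdjunction.homEquiv _ _).symm g)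
      (Equiv.injective _) (subsingleton_of_injective _ (hε _).1
        (subsingleton_of_injective _ key.injective h))
  haveI : Projective (ModuleCat.of (Localization.Away f) (Localization.Away f)) :=
    (IsProjective.iff_projective (R := Localization.Away f) (P := Localization.Away f)).mp inferInstance
  have hs : Subsingleton (Dual.HD (Localization.Away f) (G⟦n⟧) 0) := ⟨fun x y => by
    obtain ⟨a, ha⟩ := (bijective_evH0 (ModuleCat.of _ (Localization.Away f)) (G⟦n⟧)).2
      (ModuleCat.ofHom (LinearMap.toSpanSingleton _ _ x))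
    obtain ⟨b, hb⟩ := (bijective_evH0 (ModuleCat.of _ (Localization.Away f)) (G⟦n⟧)).2
      (ModuleCat.ofHom (LinearMap.toSpanSingleton _ _ y))
    have := congrArg (fun t => t.hom (1 : Localization.Away f))
      ((ha.symm.trans (congrArg (evH0 _ _) (hG.elim a b))).trans hb)
    simpa using this⟩
  haveI := (hdShiftEquiv G n).symm.toEquiv.subsingleton
  exact ((resM f).map_isZero (van_iff.2 inferInstance)).of_iso
    ((DerLib.ExactHomology.homologyIso (resM f) n).app G)

theorem van_obj₂ (T : Triangle (Dual.D A)) (hT : T ∈ Pretriangulated.distinguishedTriangles)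
    (n : ℤ) (h₁ : Van T.obj₁ n) (h₃ : Van T.obj₃ n) : Van T.obj₂ n :=
  (DerivedCategory.HomologySequence.exact₂ T hT n).isZero_X₂ (h₁.eq_of_src _ _) (h₃.eq_of_tgt _ _)

theorem van_obj₃ (T : Triangle (Dual.D A)) (hT : T ∈ Pretriangulated.distinguishedTriangles)
    (n : ℤ) (h₂ : Van T.obj₂ n) (h₁ : Van T.obj₁ (n + 1)) : Van T.obj₃ n :=
  (DerivedCategory.HomologySequence.exact₃ T hT n (n + 1) rfl).isZero_X₂ (h₂.eq_of_src _ _)
    (h₁.eq_of_tgt _ _)

variable {I : Ideal A}

/-- A decomposition with control of the cohomology. -/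
theorem exists_decomp_van (l : List A) (hl : ∀ f ∈ l, f ∈ I) (X : Dual.D A) :
    ∃ (B Z : Dual.D A) (q : X ⟶ B) (r : B ⟶ Z) (s : Z ⟶ X⟦(1 : ℤ)⟧),
      Triangle.mk q r s ∈ Pretriangulated.distinguishedTriangles ∧ (∀ f ∈ l, Comp f B) ∧
        (DRing.IsDerivedComplete I).leftOrthogonal Z ∧
        ∀ n : ℤ, (∀ j, n ≤ j → j ≤ n + l.length → Van X j) → Van B n := by
  induction l with
  | nil =>
    exact ⟨X, 0, 𝟙 X, 0, 0, Pretriangulated.contractible_distinguished X, by simp,
      fun _ g _ => (isZero_zero _).eq_of_src g 0, fun n h => h n le_rfl (by simp)⟩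
  | cons f l ih =>
    obtain ⟨B, Z, q, r, s, hT, hB, hZ, hv⟩ := ih fun g hg => hl g (List.mem_cons_of_mem _ hg)
    obtain ⟨G, C, ε, q', δ, hT', hC, hε⟩ := exists_step f B
    obtain ⟨Z', r', s', hT''⟩ := Pretriangulated.distinguished_cocone_triangle (q ≫ q')
    have hrot := Pretriangulated.rot_of_distTriang _ hT'
    let o := Triangulated.someOctahedron rfl hT hrot hT''
    refine ⟨C, Z', q ≫ q', r', s', hT'', ?_, ?_, ?_⟩
    · intro g hg
      rcases List.mem_cons.1 hg with rfl | hg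
      · exact hC
      · exact Comp.of_distTriang _ hrot (hB g hg) (Comp.shift (comp_coRes f (hB g hg) ε hε) 1)
    · exact (DRing.IsDerivedComplete I).leftOrthogonal.ext_of_isTriangulatedClosed₂ _ o.mem hZ
        ((DRing.IsDerivedComplete I).leftOrthogonal.le_shift (1 : ℤ) _
          (leftOrthogonal_resD (hl f (List.mem_cons_self ..)) G))
    · intro n h
      simp only [List.length_cons, Nat.cast_add, Nat.cast_one] at h
      have hBn : Van B n := hv n fun j h1 h2 => h j h1 (by omega)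
      have hBn' : Van B (n + 1) := hv _ fun j h1 h2 => h j (by omega) (by omega)
      exact van_obj₃ _ hT' n hBn
        (van_coRes ε hε (n + 1) hBn' (by rwa [add_sub_cancel_right]))

/-- Being a derived completion. -/
def IsRefl (I : Ideal A) {X B : Dual.D A} (q : X ⟶ B) : Prop :=
  DRing.IsDerivedComplete I B ∧
    ∀ Y, DRing.IsDerivedComplete I Y → Function.Bijective fun g : B ⟶ Y => q ≫ g

theorem isRefl_of_triangle {X B Z : Dual.D A} {q : X ⟶ B} {r : B ⟶ Z} {s : Z ⟶ X⟦(1 : ℤ)⟧}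
    (hT : Triangle.mk q r s ∈ Pretriangulated.distinguishedTriangles)
    (hB : DRing.IsDerivedComplete I B) (hZ : (DRing.IsDerivedComplete I).leftOrthogonal Z) :
    IsRefl I q := by
  refine ⟨hB, fun Y hY => ⟨fun a b h => sub_eq_zero.1 ?_, fun g => ?_⟩⟩
  · obtain ⟨u, hu⟩ := Triangle.yoneda_exact₂ _ hT (a - b)
      ((Preadditive.comp_sub _ _ _).trans (sub_eq_zero.2 h))
    rw [hu, hZ u hY]
    exact comp_zero
  · obtain ⟨u, hu⟩ := Triangle.yoneda_exact₂ _ (Pretriangulated.inv_rot_of_distTriang _ hT) g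
      ((DRing.IsDerivedComplete I).leftOrthogonal.le_shift (-1 : ℤ) _ hZ _ hY)
    exact ⟨u, hu.symm⟩

theorem IsRefl.iso {X B B' : Dual.D A} {q : X ⟶ B} {q' : X ⟶ B'} (h : IsRefl I q)
    (h' : IsRefl I q') : Nonempty (B ≅ B') := by
  obtain ⟨a, ha⟩ := (h.2 _ h'.1).2 q'
  obtain ⟨b, hb⟩ := (h'.2 _ h.1).2 q
  simp only at ha hb
  exact ⟨{ hom := a, inv := b
           hom_inv_id := (h.2 _ h.1).1 (by simp only []; rw [← Category.assoc, ha, hb, Category.comp_id])
           inv_hom_id := (h'.2 _ h'.1).1 (by simp only []; rw [← Category.assoc, hb, ha, Category.comp_id]) }⟩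

theorem isRefl_unit [DRing.HasDerivedCompletion I] (X : Dual.D A) :
    IsRefl I (DRing.toDerivedCompletion I X) := by
  refine ⟨((DRing.derivedCompletion I).obj X).property, fun Y hY => ?_⟩
  have h := ((DRing.derivedCompletionAdj I).homEquiv X ⟨Y, hY⟩).bijective
  refine ⟨fun a b hab => ?_, fun g => ?_⟩
  · exact congrArg InducedCategory.Hom.hom (h.1 (a₁ := ObjectProperty.homMk a)
      (a₂ := ObjectProperty.homMk b)
      (by rw [Adjunction.homEquiv_unit, Adjunction.homEquiv_unit]; exact hab))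
  · obtain ⟨t, ht⟩ := h.2 g
    rw [Adjunction.homEquiv_unit] at ht
    exact ⟨t.hom, ht⟩

/-- The completion of an object vanishes in degree `n` if the object vanishes in `[n, n + r]`. -/
theorem van_completion [DRing.HasDerivedCompletion I] (s : Finset A)
    (hs : Ideal.span (s : Set A) = I) {X B : Dual.D A} {q : X ⟶ B} (hq : IsRefl I q) (n : ℤ)
    (h : ∀ j, n ≤ j → j ≤ n + s.card → Van X j) : Van B n := by
  obtain ⟨B', Z, q', r, t, hT, hB, hZ, hv⟩ := exists_decomp_van (I := I) s.toList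
    (fun f hf => hs ▸ Ideal.subset_span (Finset.mem_toList.1 hf)) X
  have hr : IsRefl I q' := isRefl_of_triangle hT
    (hs ▸ isDerivedComplete_span_iff.2 fun f hf => hB f (Finset.mem_toList.2 hf)) hZ
  obtain ⟨e⟩ := hr.iso hq
  exact Van.of_iso e (hv n (by rwa [Finset.length_toList]))

theorem isDerivedComplete_obj₃ (T : Triangle (Dual.D A))
    (hT : T ∈ Pretriangulated.distinguishedTriangles) (h₁ : DRing.IsDerivedComplete I T.obj₁)
    (h₂ : DRing.IsDerivedComplete I T.obj₂) : DRing.IsDerivedComplete I T.obj₃ :=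
  fun f hf => Comp.of_distTriang _ (Pretriangulated.rot_of_distTriang _ hT) (h₂ f hf)
    (Comp.shift (h₁ f hf) 1)

theorem IsRefl.shift {X B : Dual.D A} {q : X ⟶ B} (h : IsRefl I q) (m : ℤ) : IsRefl I (q⟦m⟧') := by
  refine ⟨(DRing.IsDerivedComplete I).le_shift m _ h.1, fun Y hY => ?_⟩
  let e := fun Z : Dual.D A => ((shiftEquiv (Dual.D A) m).toAdjunction.homEquiv Z Y)
  have hY' : DRing.IsDerivedComplete I (Y⟦-m⟧) := (DRing.IsDerivedComplete I).le_shift (-m) _ hY
  have : (fun g : B⟦m⟧ ⟶ Y => q⟦m⟧' ≫ g) = (e X).symm ∘ (fun g => q ≫ g) ∘ (e B) := by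
    funext g
    apply (e X).injective
    simp only [Function.comp_apply, Equiv.apply_symm_apply, e]
    exact Adjunction.homEquiv_naturality_left _ q g
  rw [this]
  exact (Equiv.bijective _).comp ((h.2 _ hY').comp (Equiv.bijective _))

/-- Derived completion is exact. -/
theorem exists_refl_cone' (S T : Triangle (Dual.D A))
    (hS : S ∈ Pretriangulated.distinguishedTriangles) (hT : T ∈ Pretriangulated.distinguishedTriangles)
    {a : S.obj₁ ⟶ T.obj₁} {b : S.obj₂ ⟶ T.obj₂} (ha : IsRefl I a) (hb : IsRefl I b)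
    (w : S.mor₁ ≫ b = a ≫ T.mor₁) :
    ∃ c : S.obj₃ ⟶ T.obj₃, IsRefl I c ∧ S.mor₂ ≫ c = b ≫ T.mor₂ := by
  obtain ⟨c, hc₁, hc₂⟩ := Pretriangulated.complete_distinguished_triangle_morphism S T hS hT a b w
  refine ⟨c, ⟨isDerivedComplete_obj₃ T hT ha.1 hb.1, fun Y hY => ?_⟩, hc₁⟩
  have ha' := (ha.shift (1 : ℤ)).2 Y hY
  have hb' := (hb.shift (1 : ℤ)).2 Y hY
  refine ⟨fun g g' hg => sub_eq_zero.1 ?_, fun h => ?_⟩
  · have h0 : c ≫ (g - g') = 0 := (Preadditive.comp_sub _ _ _).trans (sub_eq_zero.2 hg)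
    generalize g - g' = d at h0 ⊢
    have h1 : T.mor₂ ≫ d = 0 := (hb.2 Y hY).1 (by
      simp only []
      rw [← Category.assoc, ← hc₁, Category.assoc, h0, comp_zero, comp_zero])
    obtain ⟨e, rfl⟩ := Triangle.yoneda_exact₃ T hT d h1
    rw [← Category.assoc, ← hc₂, Category.assoc] at h0
    obtain ⟨e', he'⟩ := Triangle.yoneda_exact₂ _
      (Pretriangulated.rot_of_distTriang _ (Pretriangulated.rot_of_distTriang _ hS))
      (a⟦(1 : ℤ)⟧' ≫ e) h0
    obtain ⟨e'', rfl⟩ := hb'.2 e'
    have he : e = -(T.mor₁⟦(1 : ℤ)⟧') ≫ e'' := ha'.1 (by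
      change a⟦(1 : ℤ)⟧' ≫ e = a⟦(1 : ℤ)⟧' ≫ _
      refine he'.trans ?_
      simp only [Triangle.rotate, Triangle.mk, Preadditive.neg_comp, Preadditive.comp_neg]
      congr 1
      refine (Category.assoc _ _ _).symm.trans (Eq.trans ?_ (Category.assoc _ _ _))
      rw [← Functor.map_comp, ← Functor.map_comp, w])
    rw [he, Preadditive.comp_neg, ← Category.assoc,
      Pretriangulated.comp_distTriang_mor_zero₃₁ _ hT, zero_comp, neg_zero]
  · obtain ⟨g₂, hg₂⟩ := (hb.2 Y hY).2 (S.mor₂ ≫ h)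
    simp only at hg₂
    have h1 : T.mor₁ ≫ g₂ = 0 := (ha.2 Y hY).1 (by
      simp only []
      rw [← Category.assoc, ← w, Category.assoc, hg₂, ← Category.assoc,
        Pretriangulated.comp_distTriang_mor_zero₁₂ _ hS, zero_comp, comp_zero])
    obtain ⟨g, rfl⟩ := Triangle.yoneda_exact₂ T hT g₂ h1
    have h2 : S.mor₂ ≫ (h - c ≫ g) = 0 := by
      rw [Preadditive.comp_sub, ← Category.assoc, hc₁, Category.assoc, hg₂, sub_self]
    obtain ⟨e, he⟩ := Triangle.yoneda_exact₃ S hS _ h2
    obtain ⟨e', rfl⟩ := ha'.2 e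
    refine ⟨g + T.mor₃ ≫ e', ?_⟩
    change c ≫ (g + T.mor₃ ≫ e') = h
    rw [Preadditive.comp_add, ← Category.assoc c T.mor₃, ← hc₂, Category.assoc, ← he]
    abel

/-- Derived completion is exact. -/
theorem exists_refl_cone (S T : Triangle (Dual.D A))
    (hS : S ∈ Pretriangulated.distinguishedTriangles) (hT : T ∈ Pretriangulated.distinguishedTriangles)
    {a : S.obj₁ ⟶ T.obj₁} {b : S.obj₂ ⟶ T.obj₂} (ha : IsRefl I a) (hb : IsRefl I b)
    (w : S.mor₁ ≫ b = a ≫ T.mor₁) : ∃ c : S.obj₃ ⟶ T.obj₃, IsRefl I c :=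
  (exists_refl_cone' S T hS hT ha hb w).imp fun _ h => h.1

theorem exists_triangle_completion [DRing.HasDerivedCompletion I] {K L : Dual.D A} (φ : K ⟶ L) :
    ∃ (C C' : Dual.D A) (g : L ⟶ C) (h : C ⟶ K⟦(1 : ℤ)⟧)
      (g' : ((DRing.derivedCompletion I).obj L).obj ⟶ C')
      (h' : C' ⟶ ((DRing.derivedCompletion I).obj K).obj⟦(1 : ℤ)⟧) (c : C ⟶ C'),
      Triangle.mk φ g h ∈ Pretriangulated.distinguishedTriangles ∧
      Triangle.mk ((DRing.derivedCompletion I).map φ).hom g' h' ∈ Pretriangulated.distinguishedTriangles ∧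
      IsRefl I c := by
  obtain ⟨C, g, h, hS⟩ := Pretriangulated.distinguished_cocone_triangle φ
  obtain ⟨C', g', h', hT⟩ := Pretriangulated.distinguished_cocone_triangle
    ((DRing.derivedCompletion I).map φ).hom
  obtain ⟨c, hc⟩ := exists_refl_cone (I := I) _ _ hS hT (a := DRing.toDerivedCompletion I K)
    (b := DRing.toDerivedCompletion I L) (isRefl_unit K) (isRefl_unit L)
    ((DRing.derivedCompletionAdj I).unit.naturality φ)
  exact ⟨C, C', g, h, g', h', c, hS, hT, hc⟩

end Groth.Agent.DCompLib
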