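import Mathlib.Algebra.Homology.DerivedCategory.Linear
import Groth.Agent.DCompLib.Range
import Mathlib.Algebra.Category.ModuleCat.Abelian

/-!
# Cohomology functors are linear
-/

set_option autoImplicit false
set_option linter.style.haveILetI false

universe u

open CategoryTheory

attribute [local instance] HasDerivedCategory.standard

namespace Groth.Agent.DCompLib

variable (A : Type u) [CommRing A] (n : ℤ)

instance linear_homologyFunctor : (HomologicalComplex.homologyFunctor (ModuleCat.{u} A) (ComplexShape.up ℤ) n).Linear A where
  map_smul f r := (ShortComplex.homologyFunctor (ModuleCat.{u} A)).map_smul r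
    ((HomologicalComplex.shortComplexFunctor (ModuleCat.{u} A) (ComplexShape.up ℤ) n).map f)
instance linear_homotopyHomologyFunctor : (HomotopyCategory.homologyFunctor (ModuleCat.{u} A) (ComplexShape.up ℤ) n).Linear A where
  map_smul {K L} f r := by
    obtain ⟨K, rfl⟩ := HomotopyCategory.quotient_obj_surjective K
    obtain ⟨L, rfl⟩ := HomotopyCategory.quotient_obj_surjective L
    obtain ⟨f, rfl⟩ := (HomotopyCategory.quotient _ _).map_surjective f
    have h := Functor.linear_of_iso (R := A) (HomotopyCategory.homologyFunctorFactors (ModuleCat.{u} A) (ComplexShape.up ℤ) n).symm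
    rw [← Functor.map_smul]
    exact h.map_smul f r
instance linear_derivedHomologyFunctor : (DerivedCategory.homologyFunctor (ModuleCat.{u} A) n).Linear A := by
  haveI : Localization.Lifting DerivedCategory.Qh (HomotopyCategory.quasiIso (ModuleCat.{u} A) (ComplexShape.up ℤ)) (HomotopyCategory.homologyFunctor (ModuleCat.{u} A) (ComplexShape.up ℤ) n) (DerivedCategory.homologyFunctor (ModuleCat.{u} A) n) := ⟨DerivedCategory.homologyFunctorFactorsh _ n⟩
  rw [← Localization.functor_linear_iff DerivedCategory.Qh (HomotopyCategory.quasiIso _
    (ComplexShape.up ℤ)) A (HomotopyCategory.homologyFunctor (ModuleCat.{u} A) (ComplexShape.up ℤ) n)]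
  infer_instance

end Groth.Agent.DCompLib
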