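import Groth.Agent.DRingLib.Basic

/-!
# Morphisms in `D(R)` out of a projective module placed in one degree
-/

set_option autoImplicit false
set_option linter.style.haveILetI false

universe u

open CategoryTheory CategoryTheory.Limits HomologicalComplex

attribute [local instance] HasDerivedCategory.standard

namespace Groth.Agent.DCompLib

variable {R : Type u} [CommRing R]

/-- Evaluation of a morphism out of `P[0]` in degree-zero cohomology. -/
noncomputable def evH0 (P : ModuleCat.{u} R) (X : DerivedCategory (ModuleCat.{u} R))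
    (g : (DerivedCategory.singleFunctor (ModuleCat.{u} R) 0).obj P ⟶ X) :
    P ⟶ (DerivedCategory.homologyFunctor (ModuleCat.{u} R) 0).obj X :=
  ((DerivedCategory.singleFunctorCompHomologyFunctorIso (ModuleCat.{u} R) 0).app P).inv ≫
    (DerivedCategory.homologyFunctor (ModuleCat.{u} R) 0).map g

theorem evH0_comp {P : ModuleCat.{u} R} {X Y : DerivedCategory (ModuleCat.{u} R)}
    (g : (DerivedCategory.singleFunctor (ModuleCat.{u} R) 0).obj P ⟶ X) (h : X ⟶ Y) :
    evH0 P Y (g ≫ h) = evH0 P X g ≫ (DerivedCategory.homologyFunctor (ModuleCat.{u} R) 0).map h := by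
  simp [evH0]

theorem evH0_map {P P' : ModuleCat.{u} R} (u : P' ⟶ P) {X : DerivedCategory (ModuleCat.{u} R)}
    (g : (DerivedCategory.singleFunctor (ModuleCat.{u} R) 0).obj P ⟶ X) :
    evH0 P' X ((DerivedCategory.singleFunctor (ModuleCat.{u} R) 0).map u ≫ g) = u ≫ evH0 P X g := by
  simp only [evH0, Functor.map_comp, Iso.app_inv, ← Category.assoc]
  congr 1
  exact ((DerivedCategory.singleFunctorCompHomologyFunctorIso (ModuleCat.{u} R) 0).inv.naturality u).symm

theorem bijective_evH0 (P : ModuleCat.{u} R) [Projective P]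
    (X : DerivedCategory (ModuleCat.{u} R)) : Function.Bijective (evH0 P X) := by
  wlog hX : ∃ E, X = DerivedCategory.Q.obj E generalizing X
  · let e := DerivedCategory.Q.objObjPreimageIso X
    have h := this (DerivedCategory.Q.obj (DerivedCategory.Q.objPreimage X)) ⟨_, rfl⟩
    have : evH0 P X = (fun g => g ≫ (DerivedCategory.homologyFunctor (ModuleCat.{u} R) 0).map e.hom) ∘
        evH0 P _ ∘ fun g => g ≫ e.inv := by
      funext g
      simp only [Function.comp_apply, ← evH0_comp, Category.assoc, Iso.inv_hom_id, Category.comp_id]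
    rw [this]
    refine Function.Bijective.comp ⟨fun a b h => ?_, fun a => ⟨a ≫ ((DerivedCategory.homologyFunctor
      (ModuleCat.{u} R) 0).map e.inv), by simp [← Functor.map_comp]⟩⟩
      (h.comp ⟨fun a b h => (cancel_mono e.inv).1 h, fun a => ⟨a ≫ e.hom, by simp⟩⟩)
    exact (cancel_mono _).1 h
  obtain ⟨E, rfl⟩ := hX
  let S : CochainComplex (ModuleCat.{u} R) ℤ := (single (ModuleCat.{u} R) (ComplexShape.up ℤ) 0).obj P
  have hproj : ∀ i, Projective (S.X i) := fun i => by
    by_cases h : i = 0
    · subst h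
      exact Projective.of_iso (singleObjXSelf (ComplexShape.up ℤ) 0 P).symm inferInstance
    · exact (isZero_single_obj_X _ 0 P i h).projective
  haveI : S.IsStrictlyLE 0 := (CochainComplex.isStrictlyLE_iff S 0).2
    fun i hi => isZero_single_obj_X _ 0 P i (by omega)
  haveI : S.IsKProjective := CochainComplex.isKProjective_of_projective S 0
  let a := (DerivedCategory.singleFunctorIsoCompQ (ModuleCat.{u} R) 0).app P
  let b := DerivedCategory.homologyFunctorFactors (ModuleCat.{u} R) 0
  have hS : ∀ g : DerivedCategory.Q.obj S ⟶ DerivedCategory.Q.obj E,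
      ∃ φ : S ⟶ E, DerivedCategory.Q.map φ = g := fun g => by
    obtain ⟨g', hg'⟩ := (CochainComplex.IsKProjective.Qh_map_bijective S
      ((HomotopyCategory.quotient _ (ComplexShape.up ℤ)).obj E)).2 g
    obtain ⟨g'', rfl⟩ := (HomotopyCategory.quotient _ (ComplexShape.up ℤ)).map_surjective g'
    exact ⟨g'', hg'⟩
  obtain ⟨j, hj⟩ : ∃ j : P ≅ S.homology 0, ∀ φ : S ⟶ E,
      evH0 P _ (a.hom ≫ DerivedCategory.Q.map φ) ≫ (b.app E).hom = j.hom ≫ homologyMap φ 0 := by
    refine ⟨((DerivedCategory.singleFunctorCompHomologyFunctorIso (ModuleCat.{u} R) 0).app P).symm ≪≫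
      (DerivedCategory.homologyFunctor (ModuleCat.{u} R) 0).mapIso a ≪≫ b.app S, fun φ => ?_⟩
    simp only [evH0, Functor.map_comp, Category.assoc, Iso.trans_hom, Iso.symm_hom, Iso.app_hom,
      Functor.mapIso_hom]
    erw [b.hom.naturality φ]
    rfl
  constructor
  · intro g₁ g₂ hg
    obtain ⟨φ₁, hφ₁⟩ := hS (a.inv ≫ g₁)
    obtain ⟨φ₂, hφ₂⟩ := hS (a.inv ≫ g₂)
    suffices h12 : DerivedCategory.Q.map φ₁ = DerivedCategory.Q.map φ₂ by
      rw [← cancel_epi a.inv]
      exact (hφ₁.symm.trans h12).trans hφ₂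
    have h0 : homologyMap φ₁ 0 = homologyMap φ₂ 0 := by
      have e₁ : a.hom ≫ DerivedCategory.Q.map φ₁ = g₁ :=
        (congrArg (a.hom ≫ ·) hφ₁).trans (a.hom_inv_id_assoc g₁)
      have e₂ : a.hom ≫ DerivedCategory.Q.map φ₂ = g₂ :=
        (congrArg (a.hom ≫ ·) hφ₂).trans (a.hom_inv_id_assoc g₂)
      rw [← cancel_epi j.hom, ← hj, ← hj]
      exact congrArg (· ≫ (b.app E).hom) ((congrArg (evH0 P _) e₁).trans
        (hg.trans (congrArg (evH0 P _) e₂).symm))
    let φ := φ₁ - φ₂
    have hφ : homologyMap φ 0 = 0 := by simp [φ, h0]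
    let e0 := singleObjXSelf (ComplexShape.up ℤ) 0 P
    have hcyc : (e0.inv ≫ φ.f 0) ≫ E.d 0 1 = 0 := by
      rw [Category.assoc, φ.comm 0 1,
        show S.d 0 1 = 0 from (isZero_single_obj_X _ 0 P 1 one_ne_zero).eq_of_tgt _ _, zero_comp,
        comp_zero]
    have hb : E.liftCycles (e0.inv ≫ φ.f 0) 1 (by simp) hcyc ≫ E.homologyπ 0 = 0 := by
      have : E.liftCycles (e0.inv ≫ φ.f 0) 1 (by simp) hcyc =
          S.liftCycles e0.inv 1 (by simp)
            ((isZero_single_obj_X _ 0 P 1 one_ne_zero).eq_of_tgt _ _) ≫ cyclesMap φ 0 := by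
        rw [← cancel_mono (E.iCycles 0)]; simp
      rw [this, Category.assoc, ← homologyπ_naturality, hφ, comp_zero, comp_zero]
    have hex : (ShortComplex.mk (E.toCycles (-1) 0) (E.homologyπ 0) (E.toCycles_comp_homologyπ (-1) 0)).Exact :=
      ShortComplex.exact_of_g_is_cokernel _ (E.homologyIsCokernel (-1) 0 (by simp))
    let t := hex.liftFromProjective (E.liftCycles (e0.inv ≫ φ.f 0) 1 (by simp) hcyc) hb
    have ht : t ≫ E.d (-1) 0 = e0.inv ≫ φ.f 0 := by
      have h := hex.liftFromProjective_comp (E.liftCycles (e0.inv ≫ φ.f 0) 1 (by simp) hcyc) hb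
      have h' := congrArg (· ≫ E.iCycles 0) h
      simp only [Category.assoc, toCycles_i, liftCycles_i] at h'
      exact h'
    have hh : Homotopy φ 0 :=
      { hom := fun i k => if h : i = 0 ∧ k = -1 then
          eqToHom (by rw [h.1]) ≫ e0.hom ≫ t ≫ eqToHom (by rw [h.2]) else 0
        zero := fun i k hik => by
          rw [dif_neg]
          rintro ⟨rfl, rfl⟩
          exact hik (by simp)
        comm := fun i => by
          by_cases hi : i = 0
          · subst hi
            rw [prevD_eq _ (show (ComplexShape.up ℤ).Rel (-1) 0 by simp),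
              dNext_eq _ (show (ComplexShape.up ℤ).Rel 0 1 by simp), dif_neg (by simp), comp_zero,
              dif_pos ⟨rfl, rfl⟩]
            simp only [eqToHom_refl, Category.id_comp, Category.comp_id, Category.assoc, ht,
              Iso.hom_inv_id_assoc, zero_add, zero_f, add_zero]
          · exact (isZero_single_obj_X _ 0 P i hi).eq_of_src _ _ }
    have := congrArg DerivedCategory.Qh.map (HomotopyCategory.eq_of_homotopy _ _ hh)
    rw [Functor.map_zero, Functor.map_zero] at this
    have h3 : DerivedCategory.Q.map φ = 0 := this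
    rwa [Functor.map_sub, sub_eq_zero] at h3
  · intro v
    let o := singleObjHomologySelfIso (ComplexShape.up ℤ) 0 P
    let w : P ⟶ E.homology 0 := o.inv ≫ j.inv ≫ v ≫ (b.app E).hom
    let z : P ⟶ E.cycles 0 := Projective.factorThru w (E.homologyπ 0)
    let φ : S ⟶ E := mkHomFromSingle (z ≫ E.iCycles 0) fun k hk => by simp
    have key : homologyMap φ 0 = j.inv ≫ v ≫ (b.app E).hom := by
      rw [← cancel_epi (S.homologyπ 0), homologyπ_naturality]
      have h1 : cyclesMap φ 0 = (singleObjCyclesSelfIso (ComplexShape.up ℤ) 0 P).hom ≫ z := by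
        rw [← cancel_mono (E.iCycles 0), cyclesMap_i, Category.assoc, mkHomFromSingle_f,
          ← Category.assoc]
        rfl
      rw [h1, Category.assoc, show z ≫ E.homologyπ 0 = w from Projective.factorThru_comp _ _]
      exact (Category.assoc _ _ _).symm.trans (congrArg (· ≫ j.inv ≫ v ≫ (b.app E).hom)
        ((Iso.comp_inv_eq o).2
          (homologyπ_singleObjHomologySelfIso_hom (ComplexShape.up ℤ) 0 P).symm))
    refine ⟨a.hom ≫ DerivedCategory.Q.map φ, ?_⟩
    rw [← cancel_mono (b.app E).hom, hj, key]; exact j.hom_inv_id_assoc _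

end Groth.Agent.DCompLib
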