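import Groth.Agent.DerLib.KInjUse
import Groth.Agent.DCompLib.SingleHom
import Mathlib.Algebra.Homology.DerivedCategory.TStructure
import Mathlib.Algebra.Category.ModuleCat.Abelian

/-!
# Morphisms in `D(R)` into an injective module placed in one degree
-/

set_option autoImplicit false
set_option linter.style.haveILetI false

universe u

open CategoryTheory CategoryTheory.Limits HomologicalComplex

attribute [local instance] HasDerivedCategory.standard

namespace Groth.Agent.DCompLib

variable {R : Type u} [CommRing R]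

local notation "D" => DerivedCategory

/-- Evaluation of a morphism into `E[-n]` in cohomology of degree `n`. -/
noncomputable def evTo (E : ModuleCat.{u} R) (n : ℤ) (X : D (ModuleCat.{u} R))
    (g : X ⟶ (DerivedCategory.singleFunctor (ModuleCat.{u} R) n).obj E) :
    (DerivedCategory.homologyFunctor (ModuleCat.{u} R) n).obj X ⟶ E :=
  (DerivedCategory.homologyFunctor (ModuleCat.{u} R) n).map g ≫
    ((DerivedCategory.singleFunctorCompHomologyFunctorIso (ModuleCat.{u} R) n).app E).hom

theorem evTo_comp {E : ModuleCat.{u} R} {n : ℤ} {X Y : D (ModuleCat.{u} R)} (h : Y ⟶ X)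
    (g : X ⟶ (DerivedCategory.singleFunctor (ModuleCat.{u} R) n).obj E) :
    evTo E n Y (h ≫ g) = (DerivedCategory.homologyFunctor (ModuleCat.{u} R) n).map h ≫ evTo E n X g := by
  simp [evTo]

theorem bijective_evTo (E : ModuleCat.{u} R) [Injective E] (n : ℤ) (X : D (ModuleCat.{u} R)) :
    Function.Bijective (evTo E n X) := by
  wlog hX : ∃ K, X = DerivedCategory.Q.obj K generalizing X
  · let e := DerivedCategory.Q.objObjPreimageIso X
    have h := this (DerivedCategory.Q.obj (DerivedCategory.Q.objPreimage X)) ⟨_, rfl⟩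
    refine ⟨fun a b hab => (cancel_epi e.hom).1 (h.1 ?_), fun v => ?_⟩
    · rw [evTo_comp, evTo_comp, hab]
    · obtain ⟨g, hg⟩ := h.2 ((DerivedCategory.homologyFunctor (ModuleCat.{u} R) n).map e.hom ≫ v)
      refine ⟨e.inv ≫ g, ?_⟩
      rw [evTo_comp, hg, ← Functor.map_comp_assoc, e.inv_hom_id,
        CategoryTheory.Functor.map_id, Category.id_comp]
  obtain ⟨K, rfl⟩ := hX
  let S : CochainComplex (ModuleCat.{u} R) ℤ := (single (ModuleCat.{u} R) (ComplexShape.up ℤ) n).obj E
  have hinj : ∀ i, Injective (S.X i) := fun i => by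
    by_cases h : i = n
    · subst h
      exact Injective.of_iso (singleObjXSelf (ComplexShape.up ℤ) i E).symm inferInstance
    · exact (isZero_single_obj_X _ n E i h).injective
  haveI : S.IsStrictlyGE n := (CochainComplex.isStrictlyGE_iff S n).2
    fun i hi => isZero_single_obj_X _ n E i (by omega)
  haveI : S.IsKInjective := CochainComplex.isKInjective_of_injective S n
  let a := (DerivedCategory.singleFunctorIsoCompQ (ModuleCat.{u} R) n).app E
  let b := DerivedCategory.homologyFunctorFactors (ModuleCat.{u} R) n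
  have hS : ∀ g : DerivedCategory.Q.obj K ⟶ DerivedCategory.Q.obj S,
      ∃ φ : K ⟶ S, DerivedCategory.Q.map φ = g := DerLib.KInjUse.Q_map_surjective K S
  obtain ⟨j, hj⟩ : ∃ j : S.homology n ≅ E, ∀ φ : K ⟶ S,
      evTo E n _ (DerivedCategory.Q.map φ ≫ a.inv) = (b.app K).hom ≫ homologyMap φ n ≫ j.hom := by
    refine ⟨(b.app S).symm ≪≫ (DerivedCategory.homologyFunctor (ModuleCat.{u} R) n).mapIso a.symm ≪≫
      (DerivedCategory.singleFunctorCompHomologyFunctorIso (ModuleCat.{u} R) n).app E, fun φ => ?_⟩
    simp only [evTo, Functor.map_comp, Category.assoc, Iso.trans_hom, Iso.symm_hom, Iso.app_hom,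
      Iso.app_inv, Functor.mapIso_hom]
    erw [← b.hom.naturality_assoc φ]
    exact congrArg (_ ≫ ·) (b.hom_inv_id_app_assoc S _).symm
  constructor
  · intro g₁ g₂ hg
    obtain ⟨φ, hφ⟩ := hS ((g₁ - g₂) ≫ a.hom)
    have e₁ : DerivedCategory.Q.map φ ≫ a.inv = g₁ - g₂ :=
      (congrArg (· ≫ a.inv) hφ).trans ((Category.assoc _ _ _).trans
        ((congrArg ((g₁ - g₂) ≫ ·) a.hom_inv_id).trans (Category.comp_id _)))
    have h2 : evTo E n _ (DerivedCategory.Q.map φ ≫ a.inv) = 0 := by
      refine (congrArg (evTo E n _) e₁).trans ?_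
      simp only [evTo, Functor.map_sub, Preadditive.sub_comp] at hg ⊢
      exact sub_eq_zero.2 hg
    have h0 : homologyMap φ n = 0 :=
      (cancel_mono j.hom).1 (((cancel_epi (b.app K).hom).1
        (((hj φ).symm.trans h2).trans comp_zero.symm)).trans zero_comp.symm)
    let e0 := singleObjXSelf (ComplexShape.up ℤ) n E
    have hcyc : K.iCycles n ≫ φ.f n = 0 := by
      rw [← cyclesMap_i, show cyclesMap φ n = 0 from ?_, zero_comp]
      have : IsIso (S.homologyπ n) := S.isIso_homologyπ (n - 1) n (by simp)
        ((isZero_single_obj_X _ n E (n - 1) (by omega)).eq_of_src _ _)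
      rw [← cancel_mono (S.homologyπ n), zero_comp, ← homologyπ_naturality, h0, comp_zero]
    have hsq : (ShortComplex.mk (K.iCycles n) (K.d n (n + 1)) (K.iCycles_d n (n + 1))).Exact :=
      ShortComplex.exact_of_f_is_kernel _ (K.cyclesIsKernel n (n + 1) (by simp))
    obtain ⟨t, ht⟩ : ∃ t : K.X (n + 1) ⟶ E, K.d n (n + 1) ≫ t = φ.f n ≫ e0.hom := by
      have hex : (ShortComplex.mk (K.iCycles n) (K.d n (n + 1)) (K.iCycles_d n (n + 1))).Exact := hsq
      exact ⟨_, hex.comp_descToInjective (φ.f n ≫ e0.hom)
        (by rw [← Category.assoc, hcyc, zero_comp])⟩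
    have hh : Homotopy φ 0 :=
      { hom := fun i k => if h : i = n + 1 ∧ k = n then
          eqToHom (by rw [h.1]) ≫ t ≫ e0.inv ≫ eqToHom (by rw [h.2]) else 0
        zero := fun i k hik => by
          rw [dif_neg]
          rintro ⟨rfl, rfl⟩
          exact hik (by simp)
        comm := fun i => by
          by_cases hi : i = n
          · subst hi
            rw [prevD_eq _ (show (ComplexShape.up ℤ).Rel (i - 1) i by simp),
              dNext_eq _ (show (ComplexShape.up ℤ).Rel i (i + 1) by simp),
              dif_pos ⟨rfl, rfl⟩, dif_neg (by simp), zero_comp]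
            simp only [eqToHom_refl, Category.id_comp, Category.comp_id, zero_f, add_zero]
            exact (((Category.assoc _ _ _).symm.trans (congrArg (· ≫ e0.inv) ht)).trans
              ((Category.assoc _ _ _).trans ((congrArg (φ.f i ≫ ·) e0.hom_inv_id).trans
                (Category.comp_id _)))).symm
          · exact (isZero_single_obj_X _ n E i hi).eq_of_tgt _ _ }
    have h3 : DerivedCategory.Q.map φ = 0 :=
      DerLib.KInjUse.Q_map_zero_of_quotient ((HomotopyCategory.eq_of_homotopy _ _ hh).trans
        (Functor.map_zero _ _ _))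
    exact sub_eq_zero.1 (e₁.symm.trans ((congrArg (· ≫ a.inv) h3).trans zero_comp))
  · intro v
    let o := singleObjHomologySelfIso (ComplexShape.up ℤ) n E
    let w : K.homology n ⟶ E := (b.app K).inv ≫ v ≫ j.inv ≫ o.hom
    let z : K.opcycles n ⟶ E := Injective.factorThru w (K.homologyι n)
    let φ : K ⟶ S := mkHomToSingle (K.pOpcycles n ≫ z) fun i hi => by simp
    refine ⟨DerivedCategory.Q.map φ ≫ a.inv, ?_⟩
    have : IsIso (S.homologyι n) := S.isIso_homologyι n (n + 1) (by simp)
      ((isZero_single_obj_X _ n E (n + 1) (by omega)).eq_of_tgt _ _)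
    let op := singleObjOpcyclesSelfIso (ComplexShape.up ℤ) n E
    have key : homologyMap φ n = w ≫ o.inv := by
      rw [← cancel_mono (S.homologyι n), homologyι_naturality]
      have h1 : opcyclesMap φ n = z ≫ op.hom := by
        rw [← cancel_epi (K.pOpcycles n), p_opcyclesMap, mkHomToSingle_f, Category.assoc,
          Category.assoc]
        refine congrArg (K.pOpcycles n ≫ ·) (congrArg (z ≫ ·) ?_)
        exact (singleObjOpcyclesSelfIso_hom (ComplexShape.up ℤ) n E).symm
      rw [h1, ← Category.assoc, show K.homologyι n ≫ z = w from Injective.comp_factorThru _ _]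
      refine Eq.trans ?_ (Category.assoc _ _ _).symm
      refine congrArg (w ≫ ·) ?_
      rw [Iso.eq_inv_comp]
      exact singleObjHomologySelfIso_hom_singleObjOpcyclesSelfIso_hom (ComplexShape.up ℤ) n E
    rw [hj, key]
    refine ((congrArg ((b.app K).hom ≫ ·) (Category.assoc w o.inv j.hom))).trans ?_
    have e : w ≫ o.inv ≫ j.hom = (b.app K).inv ≫ v := by simp [w]; rfl
    exact (congrArg ((b.app K).hom ≫ ·) e).trans ((b.app K).hom_inv_id_assoc v)

end Groth.Agent.DCompLib
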