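import Groth.Agent.DCompLib.Range
import Groth.Agent.DCompLib.Linear
import Groth.Agent.DCompLib.SingleTo
import Groth.Agent.DCompLib.FinGen
import Groth.Agent.KFlatLib.RingBaseChange
import Mathlib.Algebra.Category.ModuleCat.Injective

/-!
# Derived Nakayama: complete objects and reduction modulo the ideal
-/

set_option autoImplicit false
set_option linter.style.haveILetI false

universe u

open CategoryTheory CategoryTheory.Limits
open CategoryTheory.Pretriangulated (Triangle)

attribute [local instance] HasDerivedCategory.standard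

namespace Groth.Agent.DCompLib

variable {A : Type u} [CommRing A]

/-- `a` kills every cohomology module. -/
def KillsH (a : A) (X : Dual.D A) : Prop := ∀ (i : ℤ) (x : Dual.HD A X i), a • x = 0

/-- `a` kills all morphisms into the shifts. -/
def KillsHom (a : A) (K Y : Dual.D A) : Prop := ∀ (m : ℤ) (g : K ⟶ Y⟦m⟧), a • g = 0

/-- Bounded above, concentrated above `t`, killed by a power of `I`. -/
def Small (I : Ideal A) (t : ℤ) (Y : Dual.D A) : Prop :=
  (∃ b : ℤ, ∀ i, b < i → Van Y i) ∧ (∀ i, i ≤ t → Van Y i) ∧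
    ∃ M : ℕ, ∀ i : ℤ, ∀ a ∈ I ^ M, ∀ x : Dual.HD A Y i, a • x = 0

/-- No morphisms to small objects. -/
def W (I : Ideal A) (t : ℤ) (K : Dual.D A) : Prop := ∀ Y, Small I t Y → ∀ g : K ⟶ Y, g = 0

theorem KillsH.of_iso {a : A} {X X' : Dual.D A} (e : X ≅ X') (h : KillsH a X) : KillsH a X' :=
  fun i x => by
    obtain ⟨y, rfl⟩ := ((DerivedCategory.homologyFunctor (ModuleCat.{u} A) i).mapIso e).toLinearEquiv.surjective x
    rw [← map_smul, h i y, map_zero]

theorem KillsH.of_shift {a : A} {X : Dual.D A} (n : ℤ) (h : KillsH a (X⟦n⟧)) : KillsH a X :=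
  fun i x => by
    let L := (((DerivedCategory.homologyFunctor (ModuleCat.{u} A) 0).shiftIso n (i - n) i
      (by omega)).app X).toLinearEquiv
    obtain ⟨y, rfl⟩ := L.surjective x
    exact (map_smul L a y).symm.trans ((congrArg L (h (i - n) y)).trans (map_zero L))

theorem van_shift {X : Dual.D A} (n i j : ℤ) (hij : n + i = j) : Van (X⟦n⟧) i ↔ Van X j :=
  (((DerivedCategory.homologyFunctor (ModuleCat.{u} A) 0).shiftIso n i j hij).app X).isZero_iff

theorem map_smul_id (a : A) (X : Dual.D A) (i : ℤ) (x : Dual.HD A X i) :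
    ((DerivedCategory.homologyFunctor (ModuleCat.{u} A) i).map (a • 𝟙 X)).hom x = a • x := by
  rw [Functor.map_smul, CategoryTheory.Functor.map_id]
  rfl

section Triangle

variable (T : Triangle (Dual.D A)) (hT : T ∈ Pretriangulated.distinguishedTriangles)

include hT in
theorem killsH_obj₃ (b : A) (h₁ : KillsH b T.obj₁) (h₂ : KillsH b T.obj₂) :
    KillsH (b * b) T.obj₃ := fun i x => by
  have hδ : (DerivedCategory.HomologySequence.δ T i (i + 1) rfl).hom (b • x) = 0 :=
    (map_smul (DerivedCategory.HomologySequence.δ T i (i + 1) rfl).hom b x).trans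
      (h₁ (i + 1) _)
  obtain ⟨y, hy⟩ := (ShortComplex.moduleCat_exact_iff _).1
    (DerivedCategory.HomologySequence.exact₃ T hT i (i + 1) rfl) (b • x) hδ
  rw [mul_smul]
  refine (congrArg (b • ·) hy.symm).trans ((map_smul _ b y).symm.trans ?_)
  exact (congrArg _ (h₂ i y)).trans (map_zero _)

include hT in
theorem killsH_obj₃_of_smul (a : A) (X : Dual.D A) (e₁ : T.obj₁ ≅ X) (e₂ : T.obj₂ ≅ X)
    (w : T.mor₁ ≫ e₂.hom = e₁.hom ≫ (a • 𝟙 X)) : KillsH (a * a) T.obj₃ := fun i x => by
  let H := DerivedCategory.homologyFunctor (ModuleCat.{u} A) i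
  let H' := DerivedCategory.homologyFunctor (ModuleCat.{u} A) (i + 1)
  have hw : ∀ (j : ℤ) (z : Dual.HD A T.obj₁ j),
      ((DerivedCategory.homologyFunctor (ModuleCat.{u} A) j).map e₂.hom).hom
        (((DerivedCategory.homologyFunctor (ModuleCat.{u} A) j).map T.mor₁).hom z) =
      a • ((DerivedCategory.homologyFunctor (ModuleCat.{u} A) j).map e₁.hom).hom z := fun j z => by
    have := congrArg (fun t => ((DerivedCategory.homologyFunctor (ModuleCat.{u} A) j).map t).hom z) w
    simp only [Functor.map_comp, ModuleCat.hom_comp, LinearMap.comp_apply, Functor.map_smul,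
      CategoryTheory.Functor.map_id] at this
    exact this
  let δ := (DerivedCategory.HomologySequence.δ T i (i + 1) rfl).hom
  have hδ0 : ((DerivedCategory.homologyFunctor (ModuleCat.{u} A) (i + 1)).map T.mor₁).hom (δ x) = 0 :=
    congrArg (fun t => t.hom x) (DerivedCategory.HomologySequence.δ_comp T hT i (i + 1) rfl)
  have hδ : δ (a • x) = 0 := by
    apply (H'.mapIso e₁).toLinearEquiv.injective
    change (H'.map e₁.hom).hom (δ (a • x)) = (H'.map e₁.hom).hom 0
    rw [map_smul, map_smul, ← hw (i + 1) (δ x), hδ0, map_zero, map_zero]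
  obtain ⟨y, hy⟩ := (ShortComplex.moduleCat_exact_iff _).1
    (DerivedCategory.HomologySequence.exact₃ T hT i (i + 1) rfl) (a • x) hδ
  change (H.map T.mor₂).hom y = a • x at hy
  obtain ⟨z, hz⟩ := (H.mapIso e₁).toLinearEquiv.surjective ((H.map e₂.hom).hom y)
  change (H.map e₁.hom).hom z = _ at hz
  have hy' : a • y = (H.map T.mor₁).hom z := by
    apply (H.mapIso e₂).toLinearEquiv.injective
    change (H.map e₂.hom).hom (a • y) = (H.map e₂.hom).hom ((H.map T.mor₁).hom z)
    rw [map_smul, hw i z, hz]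
  rw [mul_smul, ← hy, ← map_smul, hy']
  exact congrArg (fun t => t.hom z) ((Functor.map_comp H _ _).symm.trans
    ((congrArg H.map (Pretriangulated.comp_distTriang_mor_zero₁₂ T hT)).trans (H.map_zero _ _)))

end Triangle

theorem KillsHom.apply {a : A} {K Y : Dual.D A} (h : KillsHom a K Y) (g : K ⟶ Y) : a • g = 0 := by
  have h0 := h 0 (g ≫ (shiftFunctorZero (Dual.D A) ℤ).inv.app Y)
  rw [← Linear.smul_comp] at h0
  exact (cancel_mono ((shiftFunctorZero (Dual.D A) ℤ).inv.app Y)).1 (h0.trans zero_comp.symm)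

theorem KillsHom.of_shift {a : A} {K Y Y' : Dual.D A} (h : KillsHom a K Y) (m : ℤ)
    (e : Y' ≅ Y⟦m⟧) (g : K ⟶ Y') : a • g = 0 := by
  have h0 := h m (g ≫ e.hom)
  rw [← Linear.smul_comp] at h0
  exact (cancel_mono e.hom).1 (h0.trans zero_comp.symm)

/-- The fibre inherits the killing of morphisms. -/
theorem killsHom_fibre {F Y : Dual.D A} {K : Dual.D A} {π : F ⟶ Y} {q : Y ⟶ Y}
    {d : Y ⟶ F⟦(1 : ℤ)⟧} (hT : Triangle.mk π q d ∈ Pretriangulated.distinguishedTriangles) {b : A}
    (h : KillsHom b K Y) : KillsHom (b * b) K F := fun m g => by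
  let S := (Triangle.shiftFunctor (Dual.D A) m).obj (Triangle.mk π q d)
  have hS : S ∈ Pretriangulated.distinguishedTriangles := Triangle.shift_distinguished _ hT m
  have h1 : (b • g) ≫ S.mor₁ = 0 := by
    rw [Linear.smul_comp]
    exact h m (g ≫ S.mor₁)
  obtain ⟨k, hk⟩ := Triangle.coyoneda_exact₂ S.invRotate
    (Pretriangulated.inv_rot_of_distTriang _ hS) (b • g) h1
  have hk0 : b • k = 0 := h.of_shift (m - 1)
    (((shiftFunctorAdd' (Dual.D A) m (-1) (m - 1) (by omega)).app Y).symm) k
  rw [mul_smul, hk]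
  exact (Linear.smul_comp _ _ _ _ _ _).symm.trans ((congrArg (· ≫ _) hk0).trans zero_comp)

theorem killsHom_single {a : A} {K : Dual.D A} (hK : KillsH a K) (E : ModuleCat.{u} A) [Injective E]
    (i : ℤ) : KillsHom a K ((DerivedCategory.singleFunctor (ModuleCat.{u} A) i).obj E) := fun m g => by
  let e := ((DerivedCategory.singleFunctors (ModuleCat.{u} A)).shiftIso m (i - m) i (by omega)).app E
  have h : a • (g ≫ e.hom) = 0 := by
    refine (bijective_evTo E (i - m) K).1 ?_
    ext x
    simp only [evTo, Functor.map_smul, Linear.smul_comp, Functor.map_zero, zero_comp,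
      ModuleCat.hom_smul, LinearMap.smul_apply]
    exact (map_smul _ a x).symm.trans ((congrArg _ (hK _ x)).trans (map_zero _))
  rw [← Linear.smul_comp] at h
  exact (cancel_mono e.hom).1 (h.trans zero_comp.symm)

variable (s : Finset A)

theorem exists_lift {K : Dual.D A} (hK : ∀ f ∈ s, ∃ M : ℕ, KillsH (f ^ M) K) (E : ModuleCat.{u} A)
    [Injective E] (i : ℤ) (φ : K ⟶ (DerivedCategory.singleFunctor (ModuleCat.{u} A) i).obj E)
    (l : List A) (hl : ∀ f ∈ l, f ∈ s) :
    ∃ (Y : Dual.D A) (π : Y ⟶ (DerivedCategory.singleFunctor (ModuleCat.{u} A) i).obj E) (ψ : K ⟶ Y),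
      φ = ψ ≫ π ∧ (∀ j, (j < i ∨ i + l.length < j) → Van Y j) ∧
      (∀ f ∈ l, ∃ M : ℕ, KillsH (f ^ M) Y) ∧ ∀ f ∈ s, ∃ M : ℕ, KillsHom (f ^ M) K Y := by
  induction l with
  | nil =>
    refine ⟨_, 𝟙 _, φ, (Category.comp_id φ).symm, fun j hj => ?_, by simp, fun f hf => ?_⟩
    · rcases hj with h | h
      · exact DerivedCategory.isZero_of_isGE _ i j h
      · exact DerivedCategory.isZero_of_isLE _ i j (by simpa using h)
    · obtain ⟨M, hM⟩ := hK f hf
      exact ⟨M, killsHom_single hM E i⟩
  | cons f l ih =>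
    obtain ⟨Y, π, ψ, hφ, hv, hkl, hks⟩ := ih fun g hg => hl g (List.mem_cons_of_mem _ hg)
    obtain ⟨M, hM⟩ := hks f (hl f (List.mem_cons_self ..))
    obtain ⟨F, p, d, hT⟩ := Pretriangulated.distinguished_cocone_triangle₁ (f ^ M • 𝟙 Y)
    obtain ⟨χ, hχ⟩ := Triangle.coyoneda_exact₂ _ hT ψ (by
      change ψ ≫ (f ^ M • 𝟙 Y) = 0
      rw [Linear.comp_smul, Category.comp_id]
      exact hM.apply ψ)
    have hrot := Pretriangulated.rot_of_distTriang _ hT
    refine ⟨F, p ≫ π, χ, ?_, fun j hj => ?_, fun g hg => ?_, fun g hg => ?_⟩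
    · rw [hφ]
      exact (congrArg (· ≫ π) hχ).trans (Category.assoc _ _ _)
    · refine (van_shift 1 (j - 1) j (by omega)).1 (van_obj₃ _ hrot (j - 1) (hv _ ?_) (hv _ ?_))
      all_goals simp only [List.length_cons, Nat.cast_add, Nat.cast_one] at hj; omega
    · rcases List.mem_cons.1 hg with rfl | hg
      · refine ⟨M + M, KillsH.of_shift 1 ?_⟩
        rw [pow_add]
        exact killsH_obj₃_of_smul _ hrot _ Y (Iso.refl _) (Iso.refl _)
          ((Category.comp_id _).trans (Category.id_comp _).symm)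
      · obtain ⟨N, hN⟩ := hkl g hg
        refine ⟨N + N, KillsH.of_shift 1 ?_⟩
        rw [pow_add]
        exact killsH_obj₃ _ hrot _ hN hN
    · obtain ⟨N, hN⟩ := hks g hg
      exact ⟨N + N, by rw [pow_add]; exact killsHom_fibre hT hN⟩

theorem van_of_killed {K : Dual.D A} {t : ℤ} (hW : W (Ideal.span (s : Set A)) t K)
    (hK : ∀ f ∈ s, ∃ M : ℕ, KillsH (f ^ M) K) (i : ℤ) (hi : t < i) : Van K i := by
  let H := (DerivedCategory.homologyFunctor (ModuleCat.{u} A) i).obj K
  let ι : H ⟶ Injective.under H := Injective.ι H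
  obtain ⟨φ, hφ⟩ := (bijective_evTo (Injective.under H) i K).2 ι
  obtain ⟨Y, π, ψ, rfl, hv, hkl, -⟩ := exists_lift s hK _ i φ s.toList fun f hf => Finset.mem_toList.1 hf
  have hsmall : Small (Ideal.span (s : Set A)) t Y := by
    refine ⟨⟨i + s.toList.length, fun j hj => hv j (Or.inr hj)⟩,
      fun j hj => hv j (Or.inl (by omega)), ?_⟩
    choose! M hM using fun f (hf : f ∈ s) => hkl f (Finset.mem_toList.2 hf)
    obtain ⟨N, hN⟩ := exists_pow_le_span_pows s (s.sup M)
    refine ⟨N, fun j a ha x => ?_⟩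
    have hle : Ideal.span ((fun f => f ^ s.sup M) '' (s : Set A)) ≤
        LinearMap.ker (LinearMap.toSpanSingleton A _ x) := Ideal.span_le.2 fun _ ⟨f, hf, hfa⟩ => by
      subst hfa
      change f ^ s.sup M • x = 0
      rw [← Nat.sub_add_cancel (Finset.le_sup (f := M) hf), pow_add, mul_smul, hM f hf j x, smul_zero]
    exact hle (hN ha)
  have h0 : ι = 0 := by
    rw [← hφ, hW Y hsmall ψ, zero_comp]
    simp [evTo]
  have : Mono (0 : H ⟶ Injective.under H) := h0 ▸ (inferInstanceAs (Mono (Injective.ι H)))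
  exact IsZero.of_mono_zero H (Injective.under H)

theorem W.cone {I : Ideal A} {t : ℤ} {K : Dual.D A} (hW : W I t K) {C : Dual.D A} {q : K ⟶ K}
    {p : K ⟶ C} {d : C ⟶ K⟦(1 : ℤ)⟧} (hT : Triangle.mk q p d ∈ Pretriangulated.distinguishedTriangles) :
    W I t C := fun Y hY g => by
  obtain ⟨g₁, rfl⟩ := Triangle.yoneda_exact₃ _ hT g (hW Y hY _)
  have hY' : Small I t (Y⟦(-1 : ℤ)⟧) := by
    obtain ⟨⟨b, hb⟩, ht, M, hM⟩ := hY
    refine ⟨⟨b + 1, fun i hi => (van_shift (-1) i (i - 1) (by omega)).2 (hb _ (by omega))⟩,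
      fun i hi => (van_shift (-1) i (i - 1) (by omega)).2 (ht _ (by omega)), M, fun i a ha x => ?_⟩
    let L := (((DerivedCategory.homologyFunctor (ModuleCat.{u} A) 0).shiftIso (-1 : ℤ) i (i - 1)
      (by omega)).app Y).toLinearEquiv
    exact L.injective ((map_smul L a x).trans ((hM _ a ha _).trans (map_zero L).symm))
  have h0 := hW _ hY' (((shiftEquiv (Dual.D A) (1 : ℤ)).toAdjunction.homEquiv _ _) g₁)
  have hg₁ : g₁ = 0 := ((shiftEquiv (Dual.D A) (1 : ℤ)).toAdjunction.homEquiv _ _).injective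
    (h0.trans (by
      rw [Adjunction.homEquiv_unit]
      exact ((congrArg (_ ≫ ·) (Functor.map_zero _ _ _)).trans comp_zero).symm))
  exact (congrArg (_ ≫ ·) hg₁).trans comp_zero

theorem van_of_complete {t : ℤ} (l : List A) (hl : ∀ f ∈ l, f ∈ s) :
    ∀ K : Dual.D A, (∀ f ∈ s, Comp f K) → W (Ideal.span (s : Set A)) t K →
      (∀ f ∈ s, f ∉ l → ∃ M : ℕ, KillsH (f ^ M) K) → ∀ i, t < i → Van K i := by
  induction l with
  | nil => exact fun K _ hW hk => van_of_killed s hW fun f hf => hk f hf (by simp)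
  | cons f l ih =>
    intro K hc hW hk i hi
    obtain ⟨C, p, d, hT⟩ := Pretriangulated.distinguished_cocone_triangle (f • 𝟙 K)
    have hC := ih (fun g hg => hl g (List.mem_cons_of_mem _ hg)) C
      (fun g hg => Comp.of_distTriang _ (Pretriangulated.rot_of_distTriang _ hT) (hc g hg)
        (Comp.shift (hc g hg) 1)) (hW.cone hT)
      (fun g hg hgl => by
        by_cases hgf : g = f
        · subst hgf
          refine ⟨2, ?_⟩
          rw [pow_two]
          exact killsH_obj₃_of_smul _ hT _ K (Iso.refl _) (Iso.refl _)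
            ((Category.comp_id _).trans (Category.id_comp _).symm)
        · obtain ⟨N, hN⟩ := hk g hg (by simp [hgf, hgl])
          exact ⟨N + N, by rw [pow_add]; exact killsH_obj₃ _ hT _ hN hN⟩)
    have hepi := (DerivedCategory.HomologySequence.epi_homologyMap_mor₁_iff _ hT i).2
      ((hC i hi).eq_of_tgt _ _)
    refine van_iff.2 (((comp_iff f).1 (hc f (hl f (List.mem_cons_self ..))) i).subsingleton_of_smul_surjective
      fun x => ?_)
    obtain ⟨y, hy⟩ := (ModuleCat.epi_iff_surjective _).1 hepi x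
    exact ⟨y, (map_smul_id f K i y).symm.trans hy⟩

section Base

variable (I : Ideal A)

/-- Reduction modulo `I` of complexes. -/
noncomputable abbrev extI : CochainComplex (ModuleCat.{u} A) ℤ ⥤ CochainComplex (ModuleCat.{u} (A ⧸ I)) ℤ :=
  DRingLib.extCx (Ideal.Quotient.mk I)

theorem hom_single_res_eq_zero {t : ℤ} (P : CochainComplex (ModuleCat.{u} A) ℤ)
    (hP : DRingLib.Good P) (h : ∀ i, t < i → IsZero (((extI I).obj P).homology i)) (j : ℤ) (hj : t < j)
    (N : ModuleCat.{u} (A ⧸ I))
    (g : DerivedCategory.Q.obj P ⟶ DerivedCategory.Q.obj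
      (((ModuleCat.restrictScalars.{u} (Ideal.Quotient.mk I)).mapHomologicalComplex (ComplexShape.up ℤ)).obj
        ((HomologicalComplex.single (ModuleCat.{u} (A ⧸ I)) (ComplexShape.up ℤ) j).obj N))) :
    g = 0 := by
  obtain ⟨X, s, hs, g', rfl⟩ := DerivedCategory.right_fac g
  let ψ : (DRingLib.resP A).obj X ⟶ X := (DRingLib.resψ A).app X
  haveI hψ : QuasiIso ψ := DRingLib.quasiIso_resψ X
  haveI : QuasiIso s := (DerivedCategory.isIso_Q_map_iff_quasiIso (φ := s)).1 hs
  let X' := (DRingLib.resP A).obj X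
  have hq := KFlatLib.quasiIso_extend (Ideal.Quotient.mk I) (DRingLib.good_resP X).1 hP.1 (ψ ≫ s)
  let adj := DerLib.KInjDerived.mapHomologicalComplexAdj
    (ModuleCat.extendRestrictScalarsAdj.{u, u, u} (Ideal.Quotient.mk I)) (ComplexShape.up ℤ)
  let h' := (adj.homEquiv X' _).symm (ψ ≫ g')
  have : (DerivedCategory.Q.obj ((extI I).obj X')).IsLE t := by
    rw [DerivedCategory.isLE_iff]
    intro i hi
    haveI : IsIso (HomologicalComplex.homologyMap ((extI I).map (ψ ≫ s)) i) :=
      (quasiIsoAt_iff_isIso_homologyMap _ _).1 (hq.quasiIsoAt i)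
    exact ((h i hi).of_iso (asIso (HomologicalComplex.homologyMap ((extI I).map (ψ ≫ s)) i))).of_iso
      ((DerivedCategory.homologyFunctorFactors _ i).app _)
  let Sj := (HomologicalComplex.single (ModuleCat.{u} (A ⧸ I)) (ComplexShape.up ℤ) j).obj N
  have : (DerivedCategory.Q.obj Sj).IsGE j :=
    DerivedCategory.TStructure.t.isGE_of_iso
      ((DerivedCategory.singleFunctorIsoCompQ (ModuleCat.{u} (A ⧸ I)) j).app N) j
  have h0 : DerivedCategory.Q.map h' = 0 :=
    DerivedCategory.TStructure.t.zero (DerivedCategory.Q.map h') t j hj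
  let res := (ModuleCat.restrictScalars.{u} (Ideal.Quotient.mk I))
  have h1 : DerivedCategory.Q.map ((res.mapHomologicalComplex (ComplexShape.up ℤ)).map h') = 0 := by
    have := res.mapDerivedCategoryFactors.hom.naturality h'
    simp only [Functor.comp_map, h0, Functor.map_zero, zero_comp] at this
    exact (cancel_epi (res.mapDerivedCategoryFactors.hom.app _)).1 (this.symm.trans comp_zero.symm)
  have h2 : DerivedCategory.Q.map (ψ ≫ g') = 0 := by
    rw [← (adj.homEquiv X' _).apply_symm_apply (ψ ≫ g'), Adjunction.homEquiv_unit, Functor.map_comp]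
    exact (congrArg (_ ≫ ·) h1).trans comp_zero
  rw [Functor.map_comp] at h2
  have h3 : DerivedCategory.Q.map g' = 0 := by
    haveI : IsIso (DerivedCategory.Q.map ψ) := (DerivedCategory.isIso_Q_map_iff_quasiIso (φ := ψ)).2 hψ
    exact (cancel_epi (DerivedCategory.Q.map ψ)).1 (h2.trans comp_zero.symm)
  rw [h3, comp_zero]

theorem W_of_reduction {t : ℤ} {K : Dual.D A} (P : CochainComplex (ModuleCat.{u} A) ℤ)
    (hP : DRingLib.Good P) (e : DerivedCategory.Q.obj P ≅ K)
    (h : ∀ i, t < i → IsZero (((extI I).obj P).homology i)) : W I t K := by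
  intro Y ⟨⟨b, hb⟩, ht, M, hM⟩
  suffices hPr : ∀ g : DerivedCategory.Q.obj P ⟶ Y, g = 0 from
    fun g => (cancel_epi e.hom).1 ((hPr (e.hom ≫ g)).trans comp_zero.symm)
  let Pr : Dual.D A → Prop := fun Y => ∀ g : DerivedCategory.Q.obj P ⟶ Y, g = 0
  have hPr : DRingLib.Devissable Pr :=
    { iso := fun e' h' g => (cancel_mono e'.inv).1 ((h' _).trans zero_comp.symm)
      zero := fun hz g => hz.eq_of_tgt g 0
      ext := fun T hT h₁ h₃ g => by
        obtain ⟨k, hk⟩ := Triangle.coyoneda_exact₂ T hT g (h₃ _)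
        rw [hk, h₁ k, zero_comp] }
  have key : ∀ (M : ℕ) (j : ℤ), t < j → ∀ N : ModuleCat.{u} A,
      (∀ a ∈ I ^ M, ∀ x : N, a • x = 0) → Pr ((DerivedCategory.singleFunctor (ModuleCat.{u} A) j).obj N) := by
    intro M
    induction M with
    | zero =>
      intro j _ N hN
      haveI : Subsingleton N := subsingleton_of_forall_eq 0 fun x => by
        simpa using hN 1 (by simp) x
      exact hPr.zero ((DerivedCategory.singleFunctor _ j).map_isZero (ModuleCat.isZero_of_subsingleton N))
    | succ M ih =>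
      intro j hj N hN
      let N₁ : Submodule A N := I • ⊤
      have h₁ : Pr ((DerivedCategory.singleFunctor (ModuleCat.{u} A) j).obj (ModuleCat.of A N₁)) := by
        refine ih j hj _ fun a ha x => Subtype.ext ?_
        change a • (x : N) = 0
        refine Submodule.smul_induction_on x.2 (fun r hr m _ => ?_) fun y z hy hz => by
          rw [smul_add, hy, hz, add_zero]
        rw [smul_smul]
        exact hN _ (by rw [pow_succ]; exact Ideal.mul_mem_mul ha hr) m
      have h₃ : Pr ((DerivedCategory.singleFunctor (ModuleCat.{u} A) j).obj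
          (ModuleCat.of A (N ⧸ N₁))) := by
        have hT : Module.IsTorsionBySet A (N ⧸ N₁) I := by
          intro x ⟨r, hr⟩
          obtain ⟨m, rfl⟩ := Submodule.mkQ_surjective _ x
          rw [← map_smul]
          exact (Submodule.Quotient.mk_eq_zero _).2 (Submodule.smul_mem_smul hr trivial)
        letI := hT.module
        let N' := ModuleCat.of (A ⧸ I) (N ⧸ N₁)
        let e1 : (ModuleCat.restrictScalars.{u} (Ideal.Quotient.mk I)).obj N' ≅ ModuleCat.of A (N ⧸ N₁) :=
          LinearEquiv.toModuleIso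
            ({ AddEquiv.refl (N ⧸ N₁) with
               map_smul' := fun a x => Module.IsTorsionBySet.mk_smul hT a x } :
              (ModuleCat.restrictScalars.{u} (Ideal.Quotient.mk I)).obj N' ≃ₗ[A] (N ⧸ N₁))
        exact hPr.iso (DerivedCategory.Q.mapIso
          ((HomologicalComplex.singleMapHomologicalComplex _ (ComplexShape.up ℤ) j).app N' ≪≫
            (HomologicalComplex.single _ _ j).mapIso e1) ≪≫
          ((DerivedCategory.singleFunctorIsoCompQ (ModuleCat.{u} A) j).app _).symm)
          (hom_single_res_eq_zero I P hP h j hj N')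
      let S : ShortComplex (ModuleCat.{u} A) :=
        ShortComplex.mk (ModuleCat.ofHom N₁.subtype) (ModuleCat.ofHom N₁.mkQ)
          (ModuleCat.hom_ext (LinearMap.exact_subtype_mkQ N₁).linearMap_comp_eq_zero)
      have hS : S.ShortExact :=
        { exact := (ShortComplex.ShortExact.moduleCat_exact_iff_function_exact _).2
            (LinearMap.exact_subtype_mkQ N₁)
          mono_f := (ModuleCat.mono_iff_injective _).2 Subtype.val_injective
          epi_g := (ModuleCat.epi_iff_surjective _).2 (Submodule.mkQ_surjective N₁) }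
      exact hPr.iso (DRingLib.singleShiftIso N j) (hPr.ext _
        (Triangle.shift_distinguished _ hS.singleTriangle_distinguished (-j))
        (hPr.iso (DRingLib.singleShiftIso _ j).symm h₁) (hPr.iso (DRingLib.singleShiftIso _ j).symm h₃))
  refine hPr.of_homology (t + 1) (b - t).toNat Y (fun i hi => ?_) fun i => ?_
  · rcases hi with hi | hi
    · exact ht i (by omega)
    · exact hb i (by omega)
  · by_cases hi : t < i
    · exact key M i hi _ (hM i)
    · exact hPr.zero ((DerivedCategory.singleFunctor _ i).map_isZero (ht i (by omega)))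

end Base

end Groth.Agent.DCompLib
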