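import Groth.Agent.DCompLib.Completion
import Groth.Agent.DCompLib.LQuot
import Groth.Agent.DerLib.NilpTest
import Mathlib.RingTheory.AdicCompletion.AsTensorProduct
import Mathlib.RingTheory.AdicCompletion.Completeness
import Mathlib.RingTheory.Flat.CategoryTheory
import Mathlib.Algebra.Homology.DerivedCategory.ExactFunctor

/-!
# Derived completion of objects with finite cohomology over a Noetherian ring
-/

set_option autoImplicit false
set_option linter.style.haveILetI false
set_option linter.unusedSectionVars false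
set_option backward.isDefEq.respectTransparency false

universe u

open CategoryTheory CategoryTheory.Limits HomologicalComplex MonoidalCategory TensorProduct
open CategoryTheory.Pretriangulated (Triangle)
open Groth.Agent.DerLib.NilpTest (Nilp)

attribute [local instance] HasDerivedCategory.standard

namespace Groth.Agent.DCompLib

variable {A : Type u} [CommRing A] (I : Ideal A)

/-- Extension of scalars to the completion, as modules over `A`. -/
noncomputable abbrev hatF : ModuleCat.{u} A ⥤ ModuleCat.{u} A :=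
  tensorLeft (ModuleCat.of A (AdicCompletion I A))

/-- `m ↦ 1 ⊗ m`. -/
noncomputable def hatNat : 𝟭 (ModuleCat.{u} A) ⟶ hatF I where
  app M := ModuleCat.ofHom (TensorProduct.mk A (AdicCompletion I A) M 1)
  naturality _ _ f := by
    ext m
    rfl

theorem hatNat_apply (M : ModuleCat.{u} A) (m : M) :
    ((hatNat I).app M).hom m = (1 : AdicCompletion I A) ⊗ₜ[A] m := rfl

theorem mem_pow_smul_of_evalₐ [IsNoetherianRing A] {n : ℕ} {d : AdicCompletion I A}
    (h : AdicCompletion.evalₐ I n d = 0) :
    d ∈ (I ^ n • ⊤ : Submodule A (AdicCompletion I A)) := by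
  rw [AdicCompletion.pow_smul_top_eq_ker_eval (IsNoetherian.noetherian I), LinearMap.mem_ker]
  have hle : I ^ n ≤ I ^ n • ⊤ := le_of_eq (by simp)
  rw [← AdicCompletion.factor_evalₐ_eq_eval I d hle, h, map_zero]

/-- A module killed by a power of `I` does not change. -/
theorem isIso_hatNat [IsNoetherianRing A] (M : ModuleCat.{u} A) (N : ℕ)
    (hM : ∀ a ∈ I ^ N, ∀ m : M, a • m = 0) : IsIso ((hatNat I).app M) := by
  let q : (A ⧸ I ^ N) →ₗ[A] (M →ₗ[A] M) := Submodule.liftQ (I ^ N) (LinearMap.lsmul A M)
    (fun a ha => LinearMap.ext fun m => hM a ha m)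
  let ψ : (AdicCompletion I A) ⊗[A] M →ₗ[A] M :=
    TensorProduct.lift (q.comp (AdicCompletion.evalₐ I N).toLinearMap)
  refine ⟨ModuleCat.ofHom ψ, ?_, ?_⟩
  · ext m
    change ψ ((1 : AdicCompletion I A) ⊗ₜ[A] m) = m
    simp only [ψ, TensorProduct.lift.tmul, LinearMap.comp_apply, AlgHom.toLinearMap_apply, map_one]
    change (LinearMap.lsmul A M (1 : A)) m = m
    simp
  · refine ModuleCat.MonoidalCategory.tensor_ext fun x m => ?_
    change (1 : AdicCompletion I A) ⊗ₜ[A] ψ (x ⊗ₜ[A] m) = x ⊗ₜ[A] m
    obtain ⟨a, ha⟩ := Ideal.Quotient.mk_surjective (AdicCompletion.evalₐ I N x)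
    have e1 : ψ (x ⊗ₜ[A] m) = a • m := by
      simp only [ψ, TensorProduct.lift.tmul, LinearMap.comp_apply, AlgHom.toLinearMap_apply, ← ha]
      rfl
    have hd : x - a • (1 : AdicCompletion I A) ∈ (I ^ N • ⊤ : Submodule A (AdicCompletion I A)) := by
      refine mem_pow_smul_of_evalₐ I ?_
      rw [map_sub, map_smul, map_one, ← ha, sub_eq_zero]
      exact (Algebra.algebraMap_eq_smul_one a)
    have h0 : ∀ d ∈ (I ^ N • ⊤ : Submodule A (AdicCompletion I A)), d ⊗ₜ[A] m = 0 := fun d hd' =>
      Submodule.smul_induction_on hd' (fun r hr y _ => by rw [TensorProduct.smul_tmul, hM r hr m, TensorProduct.tmul_zero])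
        fun y z hy hz => by rw [TensorProduct.add_tmul, hy, hz, add_zero]
    rw [e1, ← TensorProduct.smul_tmul, eq_comm, ← sub_eq_zero, ← TensorProduct.sub_tmul, h0 _ hd]

variable [IsNoetherianRing A]

instance preservesFiniteLimits_hatF : PreservesFiniteLimits (hatF I) :=
  (Module.Flat.iff_preservesFiniteLimits_tensorLeft (R := A) (M := ModuleCat.of A (AdicCompletion I A))).1
    (inferInstanceAs (Module.Flat A (AdicCompletion I A)))

instance preservesFiniteColimits_hatF : PreservesFiniteColimits (hatF I) :=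
  haveI : PreservesColimitsOfSize.{0, 0} (hatF I) :=
    (ihom.adjunction (ModuleCat.of A (AdicCompletion I A))).leftAdjoint_preservesColimits
  PreservesColimitsOfSize.preservesFiniteColimits _

/-- Completion on complexes. -/
noncomputable def hatCx : 𝟭 (CochainComplex (ModuleCat.{u} A) ℤ) ⟶
    (hatF I).mapHomologicalComplex (ComplexShape.up ℤ) where
  app K := { f := fun i => (hatNat I).app (K.X i), comm' := fun i j _ => ((hatNat I).naturality (K.d i j)).symm }
  naturality K L g := by
    ext i : 1
    exact (hatNat I).naturality (g.f i)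

/-- Completion on the derived category. -/
noncomputable abbrev hatD : Dual.D A ⥤ Dual.D A := (hatF I).mapDerivedCategory

/-- The unit on the derived category. -/
noncomputable def hatUnit : 𝟭 (Dual.D A) ⟶ hatD I :=
  letI : Localization.Lifting DerivedCategory.Q (HomologicalComplex.quasiIso (ModuleCat.{u} A) (ComplexShape.up ℤ))
      ((hatF I).mapHomologicalComplex (ComplexShape.up ℤ) ⋙ DerivedCategory.Q)
      (hatD I) := ⟨(hatF I).mapDerivedCategoryFactors⟩
  Localization.liftNatTrans DerivedCategory.Q (HomologicalComplex.quasiIso _ _) DerivedCategory.Q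
    ((hatF I).mapHomologicalComplex (ComplexShape.up ℤ) ⋙ DerivedCategory.Q)
    _ _ (Functor.whiskerRight (hatCx I) DerivedCategory.Q)

theorem hatUnit_app (K : CochainComplex (ModuleCat.{u} A) ℤ) :
    (hatUnit I).app (DerivedCategory.Q.obj K) = DerivedCategory.Q.map ((hatCx I).app K) ≫
      (hatF I).mapDerivedCategoryFactors.inv.app K := by
  rw [hatUnit, Localization.liftNatTrans_app]
  simp [Localization.Lifting.iso]

/-- The cohomology of the completion. -/
theorem exists_homology_iso (X : Dual.D A) (i : ℤ) :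
    ∃ e : (DerivedCategory.homologyFunctor (ModuleCat.{u} A) i).obj ((hatD I).obj X) ≅
        (hatF I).obj ((DerivedCategory.homologyFunctor (ModuleCat.{u} A) i).obj X),
      (DerivedCategory.homologyFunctor (ModuleCat.{u} A) i).map ((hatUnit I).app X) ≫ e.hom =
        (hatNat I).app ((DerivedCategory.homologyFunctor (ModuleCat.{u} A) i).obj X) := by
  let H := DerivedCategory.homologyFunctor (ModuleCat.{u} A) i
  let hh := DerivedCategory.homologyFunctorFactors (ModuleCat.{u} A) i
  let K := DerivedCategory.Q.objPreimage X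
  let ι : DerivedCategory.Q.obj K ≅ X := DerivedCategory.Q.objObjPreimageIso X
  haveI : (hatF I).PreservesHomology := inferInstance
  let e₁ : H.obj ((hatD I).obj (DerivedCategory.Q.obj K)) ≅ (hatF I).obj (K.homology i) :=
    H.mapIso ((hatF I).mapDerivedCategoryFactors.app K) ≪≫ hh.app _ ≪≫
      (K.sc i).mapHomologyIso (hatF I)
  let j : H.obj (DerivedCategory.Q.obj K) ≅ K.homology i := hh.app K ≪≫ (K.sc i).mapHomologyIso (𝟭 _)
  refine ⟨H.mapIso ((hatD I).mapIso ι.symm) ≪≫ e₁ ≪≫ (hatF I).mapIso (j.symm ≪≫ H.mapIso ι), ?_⟩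
  have h1 : H.map ((hatUnit I).app (DerivedCategory.Q.obj K)) ≫ e₁.hom =
      j.hom ≫ (hatNat I).app (K.homology i) := by
    have hn : (hatNat I).app (K.sc i).homology = _ := NatTrans.app_homology (hatNat I) (K.sc i)
    rw [show (hatNat I).app (K.homology i) = _ from hn]
    have h3 : H.map (DerivedCategory.Q.map ((hatCx I).app K)) ≫ hh.hom.app _ =
        hh.hom.app K ≫ HomologicalComplex.homologyMap ((hatCx I).app K) i :=
      hh.hom.naturality ((hatCx I).app K)
    refine Eq.trans ?_ ((congrArg (fun t => t ≫ ((K.sc i).mapHomologyIso (hatF I)).hom) h3).trans ?_)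
    · simp only [e₁, Iso.trans_hom, Functor.mapIso_hom, Iso.app_hom, ← Functor.map_comp_assoc, hatUnit_app,
        Category.assoc, Iso.inv_hom_id_app]
      erw [Category.comp_id]
    · refine (Category.assoc _ _ _).trans (Eq.trans ?_ (Category.assoc (hh.app K).hom _ _).symm)
      exact congrArg ((hh.app K).hom ≫ ·) (Iso.hom_inv_id_assoc ((K.sc i).mapHomologyIso (𝟭 _)) _).symm
  have h2 : H.map ((hatUnit I).app X) ≫ H.map ((hatD I).map ι.inv) =
      H.map ι.inv ≫ H.map ((hatUnit I).app (DerivedCategory.Q.obj K)) := by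
    rw [← Functor.map_comp, ← Functor.map_comp]
    exact congrArg H.map ((hatUnit I).naturality ι.inv).symm
  change H.map ((hatUnit I).app X) ≫ H.map ((hatD I).map ι.inv) ≫ e₁.hom ≫
    (hatF I).map (j.inv ≫ H.map ι.hom) = _
  rw [reassoc_of% h2, reassoc_of% h1]
  refine (congrArg (H.map ι.inv ≫ j.hom ≫ ·) ((hatNat I).naturality (j.inv ≫ H.map ι.hom)).symm).trans ?_
  change H.map ι.inv ≫ j.hom ≫ (j.inv ≫ H.map ι.hom) ≫ (hatNat I).app _ = _
  rw [Category.assoc, Iso.hom_inv_id_assoc, ← Functor.map_comp_assoc, Iso.inv_hom_id,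
    CategoryTheory.Functor.map_id, Category.id_comp]

theorem exists_kill_pow {K : Dual.D A} {f : A} (h : Nilp f K) (i : ℤ) :
    ∃ k : ℕ, ∀ x : Dual.HD A K i, f ^ k • x = 0 := by
  obtain ⟨k, hk⟩ := h
  exact ⟨k, fun x => by rw [← map_smul_id, hk, Functor.map_zero]; rfl⟩

theorem exists_pow_kill (s : Finset A) {K : Dual.D A} (h : ∀ f ∈ s, Nilp f K) (i : ℤ) :
    ∃ N : ℕ, ∀ a ∈ Ideal.span (s : Set A) ^ N, ∀ x : Dual.HD A K i, a • x = 0 := by
  choose! k hk using fun f hf => exists_kill_pow (h f hf) i
  obtain ⟨N, hN⟩ := exists_pow_le_span_pows s (s.sup k)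
  refine ⟨N, fun a ha x => ?_⟩
  have : Ideal.span ((fun f => f ^ s.sup k) '' (s : Set A)) ≤ Module.annihilator A (Dual.HD A K i) := by
    rw [Ideal.span_le]
    rintro _ ⟨f, hf, rfl⟩
    refine Module.mem_annihilator.2 fun y => ?_
    change f ^ s.sup k • y = 0
    rw [← Nat.sub_add_cancel (Finset.le_sup (f := k) hf), pow_add, mul_smul, hk f hf, smul_zero]
  exact Module.mem_annihilator.1 (this (hN ha)) x

variable (s : Finset A)

theorem isDerivedComplete_of_nilp {K : Dual.D A} (h : ∀ f ∈ s, Nilp f K) :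
    DRing.IsDerivedComplete (Ideal.span (s : Set A)) K := by
  rw [isDerivedComplete_span_iff]
  intro f hf
  rw [comp_iff]
  intro i
  obtain ⟨k, hk⟩ := exists_kill_pow (h f hf) i
  refine FComplete.of_pow (n := k) ?_
  have : (fun (x : ℕ → Dual.HD A K i) (j : ℕ) => x j - f ^ k • x (j + 1)) = id := by
    funext x j
    rw [hk, sub_zero]; rfl
  unfold FComplete
  rw [this]
  exact Function.bijective_id

theorem isZero_of_isIso_smul {f : A} {K : Dual.D A} (hf : f ∈ s)
    (hK : DRing.IsDerivedComplete (Ideal.span (s : Set A)) K) (hi : IsIso (f • 𝟙 K)) : IsZero K := by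
  refine Groth.Agent.DRingLib.isZero_of_isZero_Hn fun i => ?_
  have hc : FComplete f (Dual.HD A K i) := (isDerivedComplete_iff _ _).1 hK f (Ideal.subset_span hf) i
  haveI := hc.subsingleton_of_smul_surjective fun x => by
    obtain ⟨y, hy⟩ := (asIso ((DerivedCategory.homologyFunctor (ModuleCat.{u} A) i).map (f • 𝟙 K))).toLinearEquiv.surjective x
    exact ⟨y, by rw [← hy]; exact (map_smul_id f K i y).symm⟩
  exact ModuleCat.isZero_of_subsingleton _

theorem isIso_hatUnit_of_nilp (hs : Ideal.span (s : Set A) = I) {X : Dual.D A}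
    (h : ∀ f ∈ s, Nilp f X) : IsIso ((hatUnit I).app X) := by
  let K := DerivedCategory.Q.objPreimage X
  let e : DerivedCategory.Q.obj K ≅ X := DerivedCategory.Q.objObjPreimageIso X
  suffices IsIso ((hatUnit I).app (DerivedCategory.Q.obj K)) from (NatTrans.isIso_app_iff_of_iso _ e).1 this
  refine DerivedCategory.isIso_iff (ModuleCat.{u} A) _ |>.2 fun i => ?_
  obtain ⟨e', he'⟩ := exists_homology_iso I (DerivedCategory.Q.obj K) i
  obtain ⟨N, hN⟩ := exists_pow_kill s (fun f hf => DerLib.NilpTest.nilp_of_iso e.symm (h f hf)) i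
  haveI := isIso_hatNat I ((DerivedCategory.homologyFunctor (ModuleCat.{u} A) i).obj (DerivedCategory.Q.obj K)) N
    (fun a ha m => hN a (hs.symm ▸ ha) m)
  rw [← Iso.eq_comp_inv] at he'
  rw [he']
  infer_instance

/-- The comparison of the cohomology of the completion with adic completion. -/
theorem exists_homology_equiv (X : Dual.D A) (i : ℤ) [Module.Finite A (Dual.HD A X i)] :
    ∃ e : Dual.HD A ((hatD I).obj X) i ≃ₗ[A] AdicCompletion I (Dual.HD A X i),
      ∀ x, e (((DerivedCategory.homologyFunctor (ModuleCat.{u} A) i).map ((hatUnit I).app X)).hom x) =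
        AdicCompletion.of I (Dual.HD A X i) x := by
  obtain ⟨e, he⟩ := exists_homology_iso I X i
  refine ⟨e.toLinearEquiv.trans
    ((AdicCompletion.ofTensorProductEquivOfFiniteNoetherian I (Dual.HD A X i)).restrictScalars A), fun x => ?_⟩
  have h1 := congr($(he).hom x)
  refine (congrArg (AdicCompletion.ofTensorProduct I (Dual.HD A X i)) h1).trans ?_
  rw [hatNat_apply, AdicCompletion.ofTensorProduct_tmul, one_smul]

theorem isDerivedComplete_hatD (X : Dual.D A) (hX : ∀ i, Module.Finite A (Dual.HD A X i)) :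
    DRing.IsDerivedComplete I ((hatD I).obj X) := by
  rw [isDerivedComplete_iff]
  intro f hf i
  haveI := hX i
  haveI : IsAdicComplete I (AdicCompletion I (Dual.HD A X i)) :=
    AdicCompletion.isAdicComplete (IsNoetherian.noetherian I)
  obtain ⟨e, -⟩ := exists_homology_equiv I X i
  exact (fComplete_of_isAdicComplete hf).of_linearEquiv e.symm

/-- `X → X ⊗ Â` is the derived completion. -/
theorem isRefl_hatUnit (X : Dual.D A) (hX : ∀ i, Module.Finite A (Dual.HD A X i)) :
    IsRefl I ((hatUnit I).app X) := by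
  obtain ⟨s, hs⟩ := IsNoetherian.noetherian I
  change Ideal.span (s : Set A) = I at hs
  obtain ⟨C, p, q, hT⟩ := Pretriangulated.distinguished_cocone_triangle ((hatUnit I).app X)
  refine isRefl_of_triangle hT (isDerivedComplete_hatD I X hX) ?_
  haveI := hasDerivedCompletion (I := I) ⟨s, hs⟩
  obtain ⟨B, Z, u, r, t, hS, hB, hZ⟩ := exists_decomp (I := I) s.toList
    (fun f hf => hs ▸ Ideal.subset_span (Finset.mem_toList.1 hf)) C
  refine DerLib.NilpTest.leftOrthogonal_of_test (R := A) (DRing.IsDerivedComplete I) s.toList ?_ ?_ hS ?_ hZ ?_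
  · intro K hK
    exact hs ▸ isDerivedComplete_of_nilp s fun f hf => hK f (Finset.mem_toList.2 hf)
  · intro f hf K hK hi
    exact isZero_of_isIso_smul s (Finset.mem_toList.1 hf) (hs.symm ▸ hK) hi
  · exact hs ▸ isDerivedComplete_span_iff.2 fun f hf => hB f (Finset.mem_toList.2 hf)
  · intro T hT'
    have hb := fun (T : Dual.D A) (h : ∀ f ∈ s.toList, Nilp f T) =>
      DerLib.NilpTest.bijective_of_nilp (R := A) (hatD I) (hatUnit I) T s.toList []
        (fun Y hY => isIso_hatUnit_of_nilp I s hs fun f hf => hY f (by simpa using hf))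
        h X (by simp)
    exact DerLib.NilpTest.subsingleton_obj₃ hT (hb T hT').2
      (hb _ fun f hf => DerLib.NilpTest.nilp_shift (hT' f hf) _).1

/-- Derived completion of an object with finite cohomology. -/
theorem exists_completion_equiv [DRing.HasDerivedCompletion I] (X : Dual.D A)
    (hX : ∀ i, Module.Finite A (Dual.HD A X i)) (n : ℤ) :
    ∃ e : Dual.HD A ((DRing.derivedCompletion I).obj X).obj n ≃ₗ[A] AdicCompletion I (Dual.HD A X n),
      ∀ x, e (((DerivedCategory.homologyFunctor (ModuleCat.{u} A) n).map (DRing.toDerivedCompletion I X)).hom x) =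
        AdicCompletion.of I (Dual.HD A X n) x := by
  haveI := hX n
  have hr := isRefl_hatUnit I X hX
  have hu := isRefl_unit (I := I) X
  obtain ⟨a, ha⟩ := (hu.2 _ hr.1).2 ((hatUnit I).app X)
  obtain ⟨b, hb⟩ := (hr.2 _ hu.1).2 (DRing.toDerivedCompletion I X)
  simp only at ha hb
  let ε : ((DRing.derivedCompletion I).obj X).obj ≅ (hatD I).obj X :=
    { hom := a, inv := b
      hom_inv_id := (hu.2 _ hu.1).1 (by simp only []; rw [← Category.assoc, ha, hb, Category.comp_id])
      inv_hom_id := (hr.2 _ hr.1).1 (by simp only []; rw [← Category.assoc, hb, ha, Category.comp_id]) }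
  obtain ⟨e, he⟩ := exists_homology_equiv I X n
  refine ⟨((DerivedCategory.homologyFunctor (ModuleCat.{u} A) n).mapIso ε).toLinearEquiv.trans e, fun x => ?_⟩
  rw [← he x]
  change e (((DerivedCategory.homologyFunctor (ModuleCat.{u} A) n).map (DRing.toDerivedCompletion I X) ≫
    (DerivedCategory.homologyFunctor (ModuleCat.{u} A) n).map a).hom x) = _
  rw [← Functor.map_comp, ha]
  rfl

end Groth.Agent.DCompLib
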