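import Groth.Agent.DCompLib.Away
import Groth.Agent.DerLib.OrthDecomp

/-!
# Existence of derived completion
-/

set_option autoImplicit false
set_option linter.style.haveILetI false

universe u

open CategoryTheory CategoryTheory.Limits ZeroObject
open CategoryTheory.Pretriangulated (Triangle)

attribute [local instance] HasDerivedCategory.standard

namespace Groth.Agent.DCompLib

variable {A : Type u} [CommRing A]

theorem Comp.of_distTriang {f : A} (T : Triangle (Dual.D A))
    (hT : T ∈ Pretriangulated.distinguishedTriangles) (h₁ : Comp f T.obj₁) (h₃ : Comp f T.obj₃) :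
    Comp f T.obj₂ := fun n => by
  refine ⟨fun a b => sub_eq_zero.1 ?_⟩
  have hT' := Triangle.shift_distinguished _ hT n
  obtain ⟨t, ht⟩ := Triangle.coyoneda_exact₂ _ hT' (a - b) ((h₃ n).elim _ _)
  rw [show t = 0 from (h₁ n).elim _ _] at ht
  exact ht.trans zero_comp

theorem Comp.of_iso {f : A} {K L : Dual.D A} (e : K ≅ L) (h : Comp f K) : Comp f L :=
  fun n => subsingleton_hom_of_iso ((shiftFunctor (Dual.D A) n).mapIso e) (h n)

theorem Comp.shift {f : A} {K : Dual.D A} (h : Comp f K) (m : ℤ) : Comp f (K⟦m⟧) :=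
  fun n => subsingleton_hom_of_iso ((shiftFunctorAdd' (Dual.D A) m n (m + n) rfl).app K) (h (m + n))

theorem Comp.of_isZero {f : A} {K : Dual.D A} (h : IsZero K) : Comp f K :=
  fun n => ⟨fun _ _ => ((shiftFunctor (Dual.D A) n).map_isZero h).eq_of_tgt _ _⟩

variable (I : Ideal A)

instance closedIso_isDerivedComplete : (DRing.IsDerivedComplete I).IsClosedUnderIsomorphisms :=
  ⟨fun e h f hf => Comp.of_iso e (h f hf)⟩

instance isTriangulated_isDerivedComplete : (DRing.IsDerivedComplete I).IsTriangulated where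
  exists_zero := ⟨0, isZero_zero _, fun _ _ => Comp.of_isZero (isZero_zero _)⟩
  isStableUnderShiftBy n := { le_shift := fun _ h f hf => Comp.shift (h f hf) n }
  ext₂' T hT h₁ h₃ := ObjectProperty.le_isoClosure _ _
    fun f hf => Comp.of_distTriang T hT (h₁ f hf) (h₃ f hf)

variable {I}

theorem leftOrthogonal_resD {f : A} (hf : f ∈ I) (X : Dual.D (Localization.Away f)) :
    (DRing.IsDerivedComplete I).leftOrthogonal ((resD f).obj X) :=
  fun _ g hY => hom_resD_eq_zero f (hY f hf) g

theorem exists_decomp (l : List A) (hl : ∀ f ∈ l, f ∈ I) (X : Dual.D A) :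
    ∃ (B Z : Dual.D A) (q : X ⟶ B) (r : B ⟶ Z) (s : Z ⟶ X⟦(1 : ℤ)⟧),
      Triangle.mk q r s ∈ Pretriangulated.distinguishedTriangles ∧ (∀ f ∈ l, Comp f B) ∧
        (DRing.IsDerivedComplete I).leftOrthogonal Z := by
  induction l with
  | nil =>
    exact ⟨X, 0, 𝟙 X, 0, 0, Pretriangulated.contractible_distinguished X, by simp,
      fun _ g _ => (isZero_zero _).eq_of_src g 0⟩
  | cons f l ih =>
    obtain ⟨B, Z, q, r, s, hT, hB, hZ⟩ := ih fun g hg => hl g (List.mem_cons_of_mem _ hg)
    obtain ⟨G, C, ε, q', δ, hT', hC, hε⟩ := exists_step f B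
    obtain ⟨Z', r', s', hT''⟩ := Pretriangulated.distinguished_cocone_triangle (q ≫ q')
    have hrot := Pretriangulated.rot_of_distTriang _ hT'
    let o := Triangulated.someOctahedron rfl hT hrot hT''
    refine ⟨C, Z', q ≫ q', r', s', hT'', ?_, ?_⟩
    · intro g hg
      rcases List.mem_cons.1 hg with rfl | hg
      · exact hC
      · exact Comp.of_distTriang _ hrot (hB g hg) (Comp.shift (comp_coRes f (hB g hg) ε hε) 1)
    · exact (DRing.IsDerivedComplete I).leftOrthogonal.ext_of_isTriangulatedClosed₂ _ o.mem hZ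
        ((DRing.IsDerivedComplete I).leftOrthogonal.le_shift (1 : ℤ) _
          (leftOrthogonal_resD (hl f (List.mem_cons_self ..)) G))

theorem isDerivedComplete_span_iff {s : Set A} {K : Dual.D A} :
    DRing.IsDerivedComplete (Ideal.span s) K ↔ ∀ f ∈ s, Comp f K := by
  refine ⟨fun h f hf => h f (Ideal.subset_span hf), fun h => ?_⟩
  rw [isDerivedComplete_iff]
  intro f hf n
  have : Ideal.span s ≤ completeIdeal A (Dual.HD A K n) :=
    Ideal.span_le.2 fun g hg => (comp_iff g).1 (h g hg) n
  exact this hf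

theorem hasDerivedCompletion (hI : I.FG) : DRing.HasDerivedCompletion I := by
  obtain ⟨s, rfl⟩ := hI
  refine (DerLib.OrthDecomp.isRightAdjoint_iff _).2 fun X => ?_
  obtain ⟨B, Z, q, r, t, hT, hB, hZ⟩ :=
    exists_decomp (I := Ideal.span (s : Set A)) s.toList
      (fun f hf => Ideal.subset_span (Finset.mem_toList.1 hf)) X
  have hi := Pretriangulated.inv_rot_of_distTriang _ hT
  exact ⟨_, B, _, _, _, hi,
    isDerivedComplete_span_iff.2 fun f hf => hB f (Finset.mem_toList.2 hf),
    (DRing.IsDerivedComplete _).leftOrthogonal.le_shift (-1 : ℤ) _ hZ⟩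

theorem isZero_derivedCompletion_of_leftOrthogonal [DRing.HasDerivedCompletion I] {X : Dual.D A}
    (hX : (DRing.IsDerivedComplete I).leftOrthogonal X) :
    IsZero ((DRing.derivedCompletion I).obj X).obj := by
  let Y := (DRing.derivedCompletion I).obj X
  have h : 𝟙 Y = 0 := by
    apply ((DRing.derivedCompletionAdj I).homEquiv X Y).injective
    exact (hX _ Y.property).trans (hX _ Y.property).symm
  rw [IsZero.iff_id_eq_zero]
  exact congrArg InducedCategory.Hom.hom h

end Groth.Agent.DCompLib
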