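import Groth.Agent.DCompLib.LQuot
import Groth.Agent.DRingLib.Amplitude

/-!
# `- ⊗^L A/I` of complete objects
-/

set_option autoImplicit false
set_option linter.style.haveILetI false

universe u

open CategoryTheory CategoryTheory.Limits MonoidalCategory
open KFlatLib (tensorN)

attribute [local instance] HasDerivedCategory.standard

namespace Groth.Agent.DCompLib

variable {A : Type u} [CommRing A] (I : Ideal A)

theorem preservesKFlatQis_tensorRight (N : ModuleCat.{u} A) :
    DRingLib.PreservesKFlatQis (tensorRight N) :=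
  fun _ _ α hP hQ _ => DRingLib.quasiIso_tensorN α hP hQ N

variable [DRing.HasLTensor A (ModuleCat.of A (A ⧸ I))]

/-- The derived tensor product with `A/I` is computed by K-flat complexes. -/
noncomputable def ltObjIso (P : CochainComplex (ModuleCat.{u} A) ℤ) (hP : DRing.IsKFlat A P) :
    (DRing.LTensor A (ModuleCat.of A (A ⧸ I))).obj (DerivedCategory.Q.obj P) ≅
      DerivedCategory.Q.obj (tensorN P (ModuleCat.of A (A ⧸ I))) :=
  DRingLib.leftDerivedObjIso (preservesKFlatQis_tensorRight _) P hP

theorem isZero_homology_extI (P : CochainComplex (ModuleCat.{u} A) ℤ) (i : ℤ)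
    (h : IsZero ((tensorN P (ModuleCat.of A (A ⧸ I))).homology i)) :
    IsZero (((extI I).obj P).homology i) := by
  let φ := Ideal.Quotient.mk I
  let N₁ := (ModuleCat.restrictScalars φ).obj (𝟙_ (ModuleCat.{u} (A ⧸ I)))
  let eN : ModuleCat.of A (A ⧸ I) ≅ N₁ :=
    LinearEquiv.toModuleIso ({ AddEquiv.refl (A ⧸ I) with
      map_smul' := fun a x => Algebra.smul_def a (show A ⧸ I from x) } : (A ⧸ I) ≃ₗ[A] N₁)
  let e := ((tensoringRight (ModuleCat.{u} A)).mapIso eN) ≪≫
    (BraidedCategory.tensorLeftIsoTensorRight N₁).symm ≪≫ KFlatLib.tensorLeftExtIso φ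
  let eC : tensorN P (ModuleCat.of A (A ⧸ I)) ≅
      ((ModuleCat.restrictScalars φ).mapHomologicalComplex (ComplexShape.up ℤ)).obj ((extI I).obj P) :=
    HomologicalComplex.Hom.isoOfComponents (fun n => e.app (P.X n))
      fun p q _ => (e.hom.naturality (P.d p q)).symm
  have h' : IsZero ((ModuleCat.restrictScalars φ).obj (((extI I).obj P).homology i)) :=
    (h.of_iso ((HomologicalComplex.homologyFunctor _ _ i).mapIso eC).symm).of_iso
      ((((extI I).obj P).sc i).mapHomologyIso (ModuleCat.restrictScalars φ)).symm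
  rw [IsZero.iff_id_eq_zero] at h' ⊢
  exact (ModuleCat.restrictScalars φ).map_injective
    (((ModuleCat.restrictScalars φ).map_id _).trans (h'.trans (Functor.map_zero _ _ _).symm))

theorem van_of_ltensor (hI : I.FG) (K : Dual.D A) (hc : DRing.IsDerivedComplete I K) (t : ℤ)
    (h : ∀ i, t < i → Van ((DRing.LTensor A (ModuleCat.of A (A ⧸ I))).obj K) i) :
    ∀ i, t < i → Van K i := by
  obtain ⟨P, hP, ⟨e⟩⟩ := DRingLib.exists_good_rep K
  obtain ⟨s, hs⟩ := hI
  have hW : W I t K := W_of_reduction I P hP e fun i hi => isZero_homology_extI I P i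
    (IsZero.of_iso (Van.of_iso ((DRing.LTensor A _).mapIso e.symm ≪≫ ltObjIso I P hP.1) (h i hi))
      ((DerivedCategory.homologyFunctorFactors (ModuleCat.{u} A) i).app
        (tensorN P (ModuleCat.of A (A ⧸ I)))).symm)
  subst hs
  exact van_of_complete s s.toList (fun f hf => Finset.mem_toList.1 hf) K
    (fun f hf => hc f (Ideal.subset_span hf)) hW fun f hf hfl => absurd (Finset.mem_toList.2 hf) hfl

theorem van_ltensor_of_van (K : Dual.D A) (t : ℤ) (h : ∀ i, t < i → Van K i) (i : ℤ) (hi : t < i) :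
    Van ((DRing.LTensor A (ModuleCat.of A (A ⧸ I))).obj K) i := by
  obtain ⟨P, hb, hf, ⟨e⟩⟩ := DRingLib.exists_free_rep K t h
  exact (DRingLib.isZero_Hn_Q _ i ((tensorRight _).map_isZero (hb i hi))).of_iso
    ((DerivedCategory.homologyFunctor _ i).mapIso ((DRing.LTensor A _).mapIso e.symm ≪≫
      ltObjIso I P (DRingLib.isKFlat_of_free P t hb hf)))

end Groth.Agent.DCompLib
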