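import Groth.Agent.DCompLib.Criterion
import Groth.Agent.DRingLib.Devissage
import Groth.Agent.DTenLib.CoInd
import Groth.Agent.DerLib.KInjDerived
import Mathlib.Algebra.Category.ModuleCat.Descent
import Mathlib.CategoryTheory.Localization.Adjunction
import Mathlib.RingTheory.Localization.BaseChange

/-!
# `D(A_f)` inside `D(A)`
-/

set_option autoImplicit false
set_option linter.style.haveILetI false

universe u

open CategoryTheory CategoryTheory.Limits
open scoped TensorProduct
open CategoryTheory.Pretriangulated (Triangle)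

attribute [local instance] HasDerivedCategory.standard

namespace Groth.Agent.DCompLib

variable {A : Type u} [CommRing A] (f : A)

/-- The structure map of `A_f`. -/
abbrev φA : A →+* Localization.Away f := algebraMap A (Localization.Away f)

/-- Restriction of modules from `A_f`. -/
noncomputable abbrev resM : ModuleCat.{u} (Localization.Away f) ⥤ ModuleCat.{u} A :=
  ModuleCat.restrictScalars.{u} (φA f)

/-- Base change of modules to `A_f`. -/
noncomputable abbrev extM : ModuleCat.{u} A ⥤ ModuleCat.{u} (Localization.Away f) :=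
  ModuleCat.extendScalars.{u, u, u} (φA f)

instance full_resM : (resM f).Full where
  map_surjective {X Y} g := by
    letI : Module A X := Module.compHom X (φA f)
    letI : Module A Y := Module.compHom Y (φA f)
    haveI : IsScalarTower A (Localization.Away f) X :=
      IsScalarTower.of_algebraMap_smul fun _ _ => rfl
    haveI : IsScalarTower A (Localization.Away f) Y :=
      IsScalarTower.of_algebraMap_smul fun _ _ => rfl
    let g' : X →ₗ[A] Y := g.hom
    exact ⟨ModuleCat.ofHom (g'.extendScalarsOfIsLocalization (Submonoid.powers f)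
      (Localization.Away f)), rfl⟩

instance preservesFiniteLimits_extM : PreservesFiniteLimits (extM f) :=
  ModuleCat.preservesFiniteLimits_extendScalars_of_flat
    (RingHom.flat_algebraMap_iff.2 (IsLocalization.flat _ (Submonoid.powers f)))

/-- Restriction `D(A_f) ⥤ D(A)`. -/
noncomputable abbrev resD : Dual.D (Localization.Away f) ⥤ Dual.D A := DRing.restrictD (φA f)

/-- Base change `D(A) ⥤ D(A_f)`. -/
noncomputable abbrev extD : Dual.D A ⥤ Dual.D (Localization.Away f) := (extM f).mapDerivedCategory

/-- The adjunction on complexes. -/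
noncomputable abbrev adjC : (extM f).mapHomologicalComplex (ComplexShape.up ℤ) ⊣
    (resM f).mapHomologicalComplex (ComplexShape.up ℤ) :=
  DerLib.KInjDerived.mapHomologicalComplexAdj (ModuleCat.extendRestrictScalarsAdj.{u, u, u} (φA f)) _

/-- The derived adjunction. -/
noncomputable def adjD : extD f ⊣ resD f :=
  letI : CatCommSq ((extM f).mapHomologicalComplex (ComplexShape.up ℤ)) DerivedCategory.Q
      DerivedCategory.Q (extD f) := ⟨(extM f).mapDerivedCategoryFactors.symm⟩
  letI : CatCommSq ((resM f).mapHomologicalComplex (ComplexShape.up ℤ)) DerivedCategory.Q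
      DerivedCategory.Q (resD f) := ⟨(resM f).mapDerivedCategoryFactors.symm⟩
  (adjC f).localization DerivedCategory.Q (HomologicalComplex.quasiIso _ _) DerivedCategory.Q
    (HomologicalComplex.quasiIso _ _) (extD f) (resD f)

theorem isIso_adjC_counit (K : DRing.Cx (Localization.Away f)) : IsIso ((adjC f).counit.app K) := by
  haveI : ∀ i, IsIso (((adjC f).counit.app K).f i) := fun i =>
    inferInstanceAs (IsIso ((ModuleCat.extendRestrictScalarsAdj.{u, u, u} (φA f)).counit.app (K.X i)))
  exact HomologicalComplex.Hom.isIso_of_components _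

instance isIso_adjD_counit : IsIso (adjD f).counit := by
  haveI : ∀ X, IsIso ((adjD f).counit.app X) := fun X => by
    let e := DerivedCategory.Q.objObjPreimageIso X
    have : IsIso ((adjD f).counit.app (DerivedCategory.Q.obj (DerivedCategory.Q.objPreimage X))) := by
      haveI := isIso_adjC_counit f (DerivedCategory.Q.objPreimage X)
      letI : CatCommSq ((extM f).mapHomologicalComplex (ComplexShape.up ℤ)) DerivedCategory.Q
          DerivedCategory.Q (extD f) := ⟨(extM f).mapDerivedCategoryFactors.symm⟩
      letI : CatCommSq ((resM f).mapHomologicalComplex (ComplexShape.up ℤ)) DerivedCategory.Q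
          DerivedCategory.Q (resD f) := ⟨(resM f).mapDerivedCategoryFactors.symm⟩
      rw [adjD, Adjunction.localization_counit_app]
      infer_instance
    exact (NatTrans.isIso_app_iff_of_iso _ e).1 this
  exact NatIso.isIso_of_isIso_app _

instance full_resD : (resD f).Full := (adjD f).fullyFaithfulROfIsIsoCounit.full

instance faithful_resD : (resD f).Faithful := (adjD f).fullyFaithfulROfIsIsoCounit.faithful

theorem isIso_unit_extRestrict (N : ModuleCat.{u} A)
    (h : Function.Bijective fun x : N => f • x) :
    IsIso ((ModuleCat.extendRestrictScalarsAdj.{u, u, u} (φA f)).unit.app N) := by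
  have hu : ∀ n : ℕ, Function.Bijective fun x : N => f ^ n • x := by
    intro n
    induction n with
    | zero => simp only [pow_zero, one_smul]; exact Function.bijective_id
    | succ n ih => simp only [pow_succ, mul_smul]; exact ih.comp h
  let L : N →ₗ[A] Localization.Away f ⊗[A] N := TensorProduct.mk A (Localization.Away f) N 1
  have hL : IsLocalizedModule (Submonoid.powers f) L :=
    (isLocalizedModule_iff_isBaseChange (Submonoid.powers f) (Localization.Away f) L).2
      (TensorProduct.isBaseChange A N (Localization.Away f))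
  rw [ConcreteCategory.isIso_iff_bijective]
  let eA : (resM f).obj (ModuleCat.of _ (Localization.Away f)) ≃ₗ[A] Localization.Away f :=
    { AddEquiv.refl (Localization.Away f) with
      map_smul' := fun a x => (Algebra.smul_def a (show Localization.Away f from x)).symm }
  let E := TensorProduct.congr eA (LinearEquiv.refl A N)
  have hb : Function.Bijective L := by
    refine ⟨fun x y hxy => ?_, fun z => ?_⟩
    · obtain ⟨⟨_, n, rfl⟩, hn⟩ := (IsLocalizedModule.eq_iff_exists (Submonoid.powers f) L).1 hxy
      exact (hu n).1 hn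
    · obtain ⟨⟨m, ⟨_, n, rfl⟩⟩, hm⟩ := IsLocalizedModule.mk'_surjective (Submonoid.powers f) L z
      obtain ⟨x, hx⟩ := (hu n).2 m
      refine ⟨x, ?_⟩
      rw [← hm]
      refine ((IsLocalizedModule.mk'_eq_iff (S := Submonoid.powers f) (f := L)).2 ?_).symm
      exact (congrArg L hx.symm).trans (map_smul L _ _)
  have hU : ((ModuleCat.extendRestrictScalarsAdj.{u, u, u} (φA f)).unit.app N : N → _) =
      E.symm ∘ L := funext fun x =>
    (ModuleCat.extendRestrictScalarsAdj_unit_app_apply (φA f) N x).trans
      (E.symm_apply_eq.2 rfl).symm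
  rw [hU]
  exact E.symm.bijective.comp hb

theorem isIso_adjC_unit (K : DRing.Cx A)
    (h : ∀ i, Function.Bijective fun x : K.X i => f • x) : IsIso ((adjC f).unit.app K) := by
  haveI : ∀ i, IsIso (((adjC f).unit.app K).f i) := fun i => isIso_unit_extRestrict f (K.X i) (h i)
  exact HomologicalComplex.Hom.isIso_of_components _

/-- Complexes on which `f` is bijective come from `D(A_f)`. -/
theorem exists_iso_resD (K : DRing.Cx A) (h : ∀ i, Function.Bijective fun x : K.X i => f • x) :
    ∃ Y : Dual.D (Localization.Away f), Nonempty ((resD f).obj Y ≅ DRing.toD K) := by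
  haveI := isIso_adjC_unit f K h
  exact ⟨DerivedCategory.Q.obj (((extM f).mapHomologicalComplex _).obj K),
    ⟨(resM f).mapDerivedCategoryFactors.app _ ≪≫
      DerivedCategory.Q.mapIso (asIso ((adjC f).unit.app K)).symm⟩⟩

/-- `A_f` in degree zero comes from `D(A_f)`. -/
noncomputable def resSingleIso : (resD f).obj (Dual.inD (Localization.Away f) (Localization.Away f)) ≅
    Dual.inD A (Localization.Away f) :=
  ((resM f).mapDerivedCategorySingleFunctor 0).app _ ≪≫
    (DerivedCategory.singleFunctor (ModuleCat.{u} A) 0).mapIso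
      (LinearEquiv.toModuleIso
        ({ AddEquiv.refl (Localization.Away f) with
           map_smul' := fun a x => (Algebra.smul_def a (show Localization.Away f from x)).symm } :
          (resM f).obj (ModuleCat.of _ (Localization.Away f)) ≃ₗ[A] Localization.Away f))

/-- Derived completeness with respect to `f`. -/
def Comp (K : Dual.D A) : Prop :=
  ∀ n : ℤ, Subsingleton (Dual.inD A (Localization.Away f) ⟶ K⟦n⟧)

theorem comp_iff {K : Dual.D A} : Comp f K ↔ ∀ n : ℤ, FComplete f (Dual.HD A K n) :=
  vanishing_iff_homology f K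

theorem subsingleton_of_injective {α β : Type*} (g : α → β) (hg : Function.Injective g)
    (h : Subsingleton β) : Subsingleton α := ⟨fun a b => hg (h.elim _ _)⟩

theorem comp_iff_resShift {K : Dual.D A} :
    Comp f K ↔ ∀ n : ℤ, Subsingleton
      ((resD f).obj ((Dual.inD (Localization.Away f) (Localization.Away f))⟦n⟧) ⟶ K) := by
  let S := Dual.inD (Localization.Away f) (Localization.Away f)
  have key : ∀ n : ℤ, ((resD f).obj (S⟦n⟧) ⟶ K) ≃ (Dual.inD A (Localization.Away f) ⟶ K⟦-n⟧) :=
    fun n => (((resD f).commShiftIso n).app S ≪≫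
      (shiftFunctor (Dual.D A) n).mapIso (resSingleIso f)).homFromEquiv.trans
        ((shiftEquiv (Dual.D A) n).toAdjunction.homEquiv _ _)
  refine ⟨fun h n => subsingleton_of_injective _ (key n).injective (h (-n)), fun h n => ?_⟩
  have := subsingleton_of_injective _ (key (-n)).symm.injective (h (-n))
  rwa [neg_neg] at this

/-- Every object of `D(A)` has a couniversal object from `D(A_f)`. -/
theorem exists_coRes (K : Dual.D A) :
    ∃ (G : Dual.D (Localization.Away f)) (ε : (resD f).obj G ⟶ K),
      ∀ X, Function.Bijective fun g : X ⟶ G => (resD f).map g ≫ ε := by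
  obtain ⟨I, hI, ⟨e⟩⟩ := DerLib.KInjUse.exists_iso_Q_kInjective K
  refine ⟨DRing.toD ((DTenLib.coiCx (φA f)).obj I),
    (DTen.resFactors (φA f)).hom.app _ ≫ DerivedCategory.Q.map (DTenLib.ev₁ (φA f) I) ≫ e.inv,
    fun X => ?_⟩
  have h := DTenLib.bijective_ev₁ (φA f) I X
  refine ⟨fun g g' hg => h.1 ((cancel_mono e.inv).1 ?_), fun g => ?_⟩
  · simpa only [Category.assoc] using hg
  · obtain ⟨t, ht⟩ := h.2 (g ≫ e.hom)
    refine ⟨t, ?_⟩
    have := congrArg (· ≫ e.inv) ht
    simpa only [Category.assoc, Iso.hom_inv_id, Category.comp_id] using this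

theorem isZero_of_subsingleton_shift {B : Type u} [CommRing B] (G : Dual.D B)
    (h : ∀ n : ℤ, Subsingleton ((Dual.inD B B)⟦n⟧ ⟶ G)) : IsZero G := by
  refine Groth.Agent.DRingLib.isZero_of_isZero_Hn fun n => ?_
  haveI : Projective (ModuleCat.of B B) :=
    (IsProjective.iff_projective (R := B) (P := B)).mp inferInstance
  haveI : Subsingleton (Dual.inD B B ⟶ G⟦n⟧) :=
    subsingleton_of_injective
      (fun g => ((shiftEquiv' (Dual.D B) (-n) n (neg_add_cancel n)).toAdjunction.homEquiv _ _).symm g)
      (Equiv.injective _) (h (-n))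
  haveI : Subsingleton (Dual.HD B (G⟦n⟧) 0) := ⟨fun x y => by
    obtain ⟨a, ha⟩ := (bijective_evH0 (ModuleCat.of B B) (G⟦n⟧)).2
      (ModuleCat.ofHom (LinearMap.toSpanSingleton B _ x))
    obtain ⟨b, hb⟩ := (bijective_evH0 (ModuleCat.of B B) (G⟦n⟧)).2
      (ModuleCat.ofHom (LinearMap.toSpanSingleton B _ y))
    have := congrArg (fun t => t.hom (1 : B))
      ((ha.symm.trans (congrArg (evH0 _ _) (Subsingleton.elim a b))).trans hb)
    simpa using this⟩
  have hz : IsZero ((DerivedCategory.homologyFunctor (ModuleCat.{u} B) 0).obj (G⟦n⟧)) :=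
    ModuleCat.isZero_of_subsingleton (ModuleCat.of B (Dual.HD B (G⟦n⟧) 0))
  exact hz.of_iso
    (((DerivedCategory.homologyFunctor (ModuleCat.{u} B) 0).shiftIso n 0 n (add_zero n)).app G).symm

/-- Objects from `D(A_f)` are left orthogonal to `f`-complete objects. -/
theorem hom_resD_eq_zero {K : Dual.D A} (hK : Comp f K) {X : Dual.D (Localization.Away f)}
    (g : (resD f).obj X ⟶ K) : g = 0 := by
  obtain ⟨G, ε, hε⟩ := exists_coRes f K
  have hG : IsZero G := isZero_of_subsingleton_shift G fun n =>
    subsingleton_of_injective _ (hε _).1 ((comp_iff_resShift f).1 hK n)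
  obtain ⟨t, rfl⟩ := (hε X).2 g
  simp only [hG.eq_of_tgt t 0, Functor.map_zero, zero_comp]

theorem comp_iff_forall {K : Dual.D A} :
    Comp f K ↔ ∀ X : Dual.D (Localization.Away f), Subsingleton ((resD f).obj X ⟶ K) :=
  ⟨fun h _ => ⟨fun a b => (hom_resD_eq_zero f h a).trans (hom_resD_eq_zero f h b).symm⟩,
    fun h => (comp_iff_resShift f).2 fun _ => h _⟩

/-- One step of derived completion. -/
theorem exists_step (K : Dual.D A) :
    ∃ (G : Dual.D (Localization.Away f)) (C : Dual.D A) (ε : (resD f).obj G ⟶ K) (q : K ⟶ C)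
      (δ : C ⟶ ((resD f).obj G)⟦(1 : ℤ)⟧),
      Triangle.mk ε q δ ∈ Pretriangulated.distinguishedTriangles ∧ Comp f C ∧
      ∀ X, Function.Bijective fun g : X ⟶ G => (resD f).map g ≫ ε := by
  obtain ⟨G, ε, hε⟩ := exists_coRes f K
  obtain ⟨C, q, δ, hT⟩ := Pretriangulated.distinguished_cocone_triangle ε
  refine ⟨G, C, ε, q, δ, hT, (comp_iff_forall f).2 fun X => ⟨fun a b => sub_eq_zero.1 ?_⟩, hε⟩
  generalize a - b = g
  have h1 : g ≫ δ = 0 := by
    let e : ((resD f).obj (X⟦(-1 : ℤ)⟧))⟦(1 : ℤ)⟧ ≅ (resD f).obj X :=
      (((resD f).commShiftIso (1 : ℤ)).app (X⟦(-1 : ℤ)⟧)).symm ≪≫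
        (resD f).mapIso ((shiftEquiv (Dual.D (Localization.Away f)) (1 : ℤ)).counitIso.app X)
    obtain ⟨k, hk⟩ := (shiftFunctor (Dual.D A) (1 : ℤ)).map_surjective (e.hom ≫ g ≫ δ)
    have hk0 : k ≫ ε = 0 := by
      apply (shiftFunctor (Dual.D A) (1 : ℤ)).map_injective
      rw [Functor.map_comp, hk, Functor.map_zero, Category.assoc, Category.assoc]
      exact ((congrArg (fun t => e.hom ≫ g ≫ t)
        (Pretriangulated.comp_distTriang_mor_zero₃₁ _ hT)).trans
        (congrArg (e.hom ≫ ·) comp_zero)).trans comp_zero
    obtain ⟨k', rfl⟩ := (resD f).map_surjective k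
    have : k' = 0 := (hε _).1 (by simp only [Functor.map_zero, zero_comp]; exact hk0)
    rw [this, Functor.map_zero, Functor.map_zero] at hk
    rw [← cancel_epi e.hom, ← hk, comp_zero]
  obtain ⟨h, hh⟩ := Triangle.coyoneda_exact₃ _ hT g h1
  obtain ⟨t, ht⟩ := (hε X).2 h
  rw [hh, ← ht]
  exact (Category.assoc _ _ _).trans
    ((congrArg (_ ≫ ·) (Pretriangulated.comp_distTriang_mor_zero₁₂ _ hT)).trans comp_zero)

/-- The couniversal object from `D(A_f)` inherits completeness. -/
theorem comp_coRes {g : A} {K : Dual.D A} (hK : Comp g K) {G : Dual.D (Localization.Away f)}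
    (ε : (resD f).obj G ⟶ K) (hε : ∀ X, Function.Bijective fun t : X ⟶ G => (resD f).map t ≫ ε) :
    Comp g ((resD f).obj G) := by
  intro n
  let S := Dual.inD A (Localization.Away g)
  let N := (resM f).obj ((extM f).obj (ModuleCat.of A (Localization.Away g)))
  have hN : Function.Bijective fun x : N => g • x := by
    have hg : IsIso (g • 𝟙 (ModuleCat.of A (Localization.Away g))) := by
      rw [ConcreteCategory.isIso_iff_bijective]
      have := (IsLocalization.Away.algebraMap_isUnit (S := Localization.Away g) g).smul_bijective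
        (β := Localization.Away g)
      convert this using 1
      funext x
      exact (algebraMap_smul (Localization.Away g) g x).symm
    have hN' : IsIso ((resM f).map ((extM f).map (g • 𝟙 (ModuleCat.of A (Localization.Away g))))) :=
      inferInstance
    rw [ConcreteCategory.isIso_iff_bijective] at hN'
    have e : (extM f).map (g • 𝟙 (ModuleCat.of A (Localization.Away g))) = φA f g • 𝟙 _ := by
      apply ((ModuleCat.extendRestrictScalarsAdj.{u, u, u} (φA f)).homEquiv _ _).injective
      rw [Adjunction.homEquiv_unit, Adjunction.homEquiv_unit]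
      ext m
      exact map_smul ((ModuleCat.extendRestrictScalarsAdj.{u, u, u} (φA f)).unit.app
        (ModuleCat.of A (Localization.Away g))).hom g m
    rw [e] at hN'
    exact hN'
  let S' := (DerivedCategory.singleFunctor (ModuleCat.{u} A) 0).obj N
  have hS' : ∀ i, Function.Bijective fun x : ((HomologicalComplex.single (ModuleCat.{u} A)
      (ComplexShape.up ℤ) 0).obj N).X i => g • x := fun i => by
    by_cases hi : i = 0
    · subst hi
      let e := (HomologicalComplex.singleObjXSelf (ComplexShape.up ℤ) 0 N).toLinearEquiv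
      have := e.symm.bijective.comp (hN.comp e.bijective)
      convert this using 1
      funext x
      simp
    · haveI := ModuleCat.subsingleton_of_isZero
        (HomologicalComplex.isZero_single_obj_X (ComplexShape.up ℤ) 0 N i hi)
      exact ⟨fun _ _ _ => Subsingleton.elim _ _, fun y => ⟨y, Subsingleton.elim _ _⟩⟩
  obtain ⟨Y, ⟨eY⟩⟩ := exists_iso_resD g _ hS'
  have eS : (resD f).obj ((extD f).obj (S⟦-n⟧)) ≅ (resD g).obj (Y⟦-n⟧) :=
    (resD f).mapIso (((extD f).commShiftIso (-n)).app S) ≪≫
      ((resD f).commShiftIso (-n)).app ((extD f).obj S) ≪≫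
      (shiftFunctor (Dual.D A) (-n)).mapIso
        ((resD f).mapIso (((extM f).mapDerivedCategorySingleFunctor 0).app _) ≪≫
          ((resM f).mapDerivedCategorySingleFunctor 0).app _ ≪≫
          (DerivedCategory.singleFunctorIsoCompQ (ModuleCat.{u} A) 0).app N ≪≫ eY.symm) ≪≫
      (((resD g).commShiftIso (-n)).app Y).symm
  have h0 : Subsingleton (S⟦-n⟧ ⟶ (resD f).obj G) :=
    subsingleton_of_injective _ (((adjD f).homEquiv (S⟦-n⟧) G).symm.injective)
      (subsingleton_of_injective _ (hε _).1
        (subsingleton_of_injective _ eS.homFromEquiv.injective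
          ((comp_iff_forall g).1 hK _)))
  exact subsingleton_of_injective
    (fun t => ((shiftEquiv' (Dual.D A) (-n) n (neg_add_cancel n)).toAdjunction.homEquiv _ _).symm t)
    (Equiv.injective _) h0

end Groth.Agent.DCompLib
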