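import Groth.Agent.DCompLib.Module
import Groth.Agent.DCompLib.SingleHom
import Groth.Prelude.Def_DRing3
import Mathlib.Algebra.Homology.DerivedCategory.SingleTriangle
import Mathlib.Algebra.Category.ModuleCat.Projective

/-!
# The cohomological criterion for derived completeness
-/

set_option autoImplicit false
set_option linter.style.haveILetI false

universe u

open CategoryTheory CategoryTheory.Limits
open CategoryTheory.Pretriangulated (Triangle)

attribute [local instance] HasDerivedCategory.standard

namespace Groth.Agent.DCompLib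

variable {A : Type u} [CommRing A]

/-- Modules in degree zero. -/
noncomputable abbrev sf (A : Type u) [CommRing A] : ModuleCat.{u} A ⥤ Dual.D A :=
  DerivedCategory.singleFunctor (ModuleCat.{u} A) 0

/-- The map `(a_n) ↦ ∑ a_n (e_n - f e_{n+1})`. -/
noncomputable def teleMap (f : A) : (ℕ →₀ A) →ₗ[A] (ℕ →₀ A) :=
  Finsupp.linearCombination A fun n => Finsupp.single n (1 : A) - f • Finsupp.single (n + 1) (1 : A)

/-- The map `e_n ↦ f⁻ⁿ`. -/
noncomputable def teleProj (f : A) : (ℕ →₀ A) →ₗ[A] Localization.Away f :=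
  Finsupp.linearCombination A fun n =>
    IsLocalization.mk' (Localization.Away f) (1 : A) (⟨f ^ n, n, rfl⟩ : Submonoid.powers f)

theorem teleProj_comp (f : A) : (teleProj f).comp (teleMap f) = 0 := by
  ext n
  simp only [teleMap, teleProj, LinearMap.comp_apply, Finsupp.lsingle_apply,
    Finsupp.linearCombination_single, map_sub, map_smul, one_smul, LinearMap.zero_apply]
  rw [sub_eq_zero, IsLocalization.smul_mk', IsLocalization.mk'_eq_iff_eq]
  simp [pow_succ', mul_comm]

theorem teleMap_apply (f : A) (a : ℕ →₀ A) (n : ℕ) :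
    teleMap f a n = a n - if n = 0 then 0 else f * a (n - 1) := by
  induction a using Finsupp.induction_linear with
  | zero => simp
  | add x y hx hy => simp only [map_add, Finsupp.add_apply, hx, hy]; split_ifs <;> ring
  | single k r =>
    simp only [teleMap, Finsupp.linearCombination_single, Finsupp.smul_apply, Finsupp.sub_apply,
      smul_eq_mul, Finsupp.single_apply]
    rcases n with _ | n
    · split_ifs <;> simp_all
    · simp only [Nat.add_sub_cancel, add_left_inj, Nat.succ_ne_zero, if_false]
      split_ifs <;> ring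

theorem teleMap_injective (f : A) : Function.Injective (teleMap f) := by
  rw [injective_iff_map_eq_zero]
  intro a ha
  have key : ∀ n, a n = 0 := fun n => by
    induction n with
    | zero => simpa [teleMap_apply] using congrArg (· 0) ha
    | succ n ih => simpa [teleMap_apply, ih] using congrArg (· (n + 1)) ha
  exact Finsupp.ext key

theorem teleProj_surjective (f : A) : Function.Surjective (teleProj f) := fun x => by
  obtain ⟨a, ⟨_, n, rfl⟩, rfl⟩ := IsLocalization.exists_mk'_eq (Submonoid.powers f) x
  refine ⟨Finsupp.single n a, ?_⟩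
  rw [teleProj, Finsupp.linearCombination_single, IsLocalization.smul_mk', mul_one]

theorem tele_exact (f : A) (a : ℕ →₀ A) (ha : teleProj f a = 0) :
    ∃ b, teleMap f b = a := by
  change a ∈ LinearMap.range (teleMap f)
  let N := LinearMap.range (teleMap f)
  have step : ∀ (n : ℕ) (r : A), Finsupp.single n r - Finsupp.single (n + 1) (f * r) ∈ N :=
    fun n r => ⟨Finsupp.single n r, by
      simp [teleMap, smul_sub, Finsupp.smul_single, mul_comm]⟩
  have push : ∀ (k n : ℕ) (r : A), Finsupp.single n r - Finsupp.single (n + k) (f ^ k * r) ∈ N := by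
    intro k
    induction k with
    | zero => simp
    | succ k ih =>
      intro n r
      have := add_mem (ih n r) (step (n + k) (f ^ k * r))
      rwa [sub_add_sub_cancel, ← mul_assoc, ← pow_succ', add_assoc] at this
  obtain ⟨M, r, hM⟩ : ∃ (M : ℕ) (r : A), a - Finsupp.single M r ∈ N := by
    clear ha
    induction a using Finsupp.induction_linear with
    | zero => exact ⟨0, 0, by simp⟩
    | single n r => exact ⟨n, r, by simp⟩
    | add x y hx hy =>
      obtain ⟨M, r, hr⟩ := hx
      obtain ⟨M', r', hr'⟩ := hy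
      refine ⟨M + M', f ^ M' * r + f ^ M * r', ?_⟩
      have := add_mem (add_mem hr hr') (add_mem (push M' M r) (push M M' r'))
      rw [add_comm M' M] at this
      rw [Finsupp.single_add]
      convert this using 1
      abel
  have h0 : teleProj f (Finsupp.single M r) = 0 := by
    obtain ⟨b, hb⟩ := hM
    have := congrArg (teleProj f) hb
    rw [map_sub, ha, zero_sub, show teleProj f (teleMap f b) = 0 from
      LinearMap.congr_fun (teleProj_comp f) b] at this
    exact neg_eq_zero.1 this.symm
  rw [teleProj, Finsupp.linearCombination_single, IsLocalization.smul_mk', mul_one,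
    IsLocalization.mk'_eq_zero_iff] at h0
  obtain ⟨⟨_, k, rfl⟩, hk⟩ := h0
  have := add_mem hM (push k M r)
  rw [show f ^ k * r = 0 from hk, Finsupp.single_zero, sub_zero, sub_add_cancel] at this
  exact this

/-- The free resolution of `A_f`. -/
noncomputable def teleS (f : A) : ShortComplex (ModuleCat.{u} A) :=
  ShortComplex.mk (ModuleCat.ofHom (teleMap f)) (ModuleCat.ofHom (teleProj f))
    (ModuleCat.hom_ext (teleProj_comp f))

theorem teleS_shortExact (f : A) : (teleS f).ShortExact where
  exact := by
    rw [ShortComplex.moduleCat_exact_iff]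
    exact tele_exact f
  mono_f := (ModuleCat.mono_iff_injective _).2 (teleMap_injective f)
  epi_g := (ModuleCat.epi_iff_surjective _).2 (teleProj_surjective f)

instance projective_free_seq : Projective (ModuleCat.of A (ℕ →₀ A)) :=
  (IsProjective.iff_projective (R := A) (P := (ℕ →₀ A))).mp inferInstance

/-- Morphisms out of `A^(ℕ)[0]` are sequences of cohomology classes. -/
noncomputable def seqOf (X : Dual.D A) (g : (sf A).obj (ModuleCat.of A (ℕ →₀ A)) ⟶ X) :
    ℕ → Dual.HD A X 0 :=
  fun n => (evH0 _ X g).hom (Finsupp.single n 1)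

theorem bijective_seqOf (X : Dual.D A) : Function.Bijective (seqOf X) := by
  refine ⟨fun g g' h => (bijective_evH0 _ X).1 ?_, fun y => ?_⟩
  · ext1
    ext n
    exact congrFun h n
  · obtain ⟨g, hg⟩ := (bijective_evH0 (ModuleCat.of A (ℕ →₀ A)) X).2
      (ModuleCat.ofHom (Finsupp.linearCombination A y))
    exact ⟨g, funext fun n => by simp [seqOf, hg]⟩

theorem seqOf_comp (X : Dual.D A) (f : A) (g : (sf A).obj (ModuleCat.of A (ℕ →₀ A)) ⟶ X) (n : ℕ) :
    seqOf X ((sf A).map (ModuleCat.ofHom (teleMap f)) ≫ g) n =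
      seqOf X g n - f • seqOf X g (n + 1) := by
  simp only [seqOf, evH0_map, ModuleCat.hom_comp, LinearMap.comp_apply, teleMap, ModuleCat.hom_ofHom,
    Finsupp.linearCombination_single, one_smul, map_sub, map_smul]

theorem seqOf_zero (X : Dual.D A) : seqOf X 0 = 0 := by
  funext n
  simp [seqOf, evH0]

theorem subsingleton_hom_of_iso {f : A} {X Y : Dual.D A} (e : X ≅ Y)
    (h : Subsingleton (Dual.inD A (Localization.Away f) ⟶ X)) :
    Subsingleton (Dual.inD A (Localization.Away f) ⟶ Y) :=
  ⟨fun a b => (cancel_mono e.inv).1 (h.elim _ _)⟩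

/-- No morphisms from `A_f` to `K[n]` when two adjacent cohomology modules are complete. -/
theorem subsingleton_hom_of_fComplete (f : A) (K : Dual.D A) (n : ℤ)
    (h₀ : FComplete f (Dual.HD A (K⟦n⟧) 0)) (h₁ : FComplete f (Dual.HD A (K⟦n - 1⟧) 0)) :
    Subsingleton (Dual.inD A (Localization.Away f) ⟶ K⟦n⟧) := by
  have hT := (teleS_shortExact f).singleTriangle_distinguished
  let u := (sf A).map (ModuleCat.ofHom (teleMap f))
  let p := (sf A).map (ModuleCat.ofHom (teleProj f))
  refine ⟨fun a b => sub_eq_zero.1 ?_⟩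
  generalize a - b = g
  have h1 : p ≫ g = 0 := (bijective_seqOf (K⟦n⟧)).1 (by
    rw [seqOf_zero]
    refine h₀.eq_zero fun m => sub_eq_zero.1 ?_
    rw [← seqOf_comp, ← Functor.map_comp_assoc,
      show ModuleCat.ofHom (teleMap f) ≫ ModuleCat.ofHom (teleProj f) = 0 from (teleS f).zero,
      Functor.map_zero, zero_comp, seqOf_zero]
    rfl)
  obtain ⟨g', hg'⟩ := Triangle.yoneda_exact₃ _ hT g h1
  let e : (K⟦n - 1⟧)⟦(1 : ℤ)⟧ ≅ K⟦n⟧ :=
    ((shiftFunctorAdd' (Dual.D A) (n - 1) (1 : ℤ) n (by omega)).app K).symm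
  obtain ⟨k, hk⟩ := (shiftFunctor (Dual.D A) (1 : ℤ)).map_surjective (g' ≫ e.inv)
  obtain ⟨x, hx⟩ := h₁.exists_solution (seqOf (K⟦n - 1⟧) k)
  obtain ⟨l, rfl⟩ := (bijective_seqOf (K⟦n - 1⟧)).2 x
  have : k = u ≫ l := (bijective_seqOf _).1 (funext fun m => by rw [seqOf_comp, hx m]; simp)
  have h2 : g' = (u⟦(1 : ℤ)⟧') ≫ (l⟦(1 : ℤ)⟧') ≫ e.hom :=
    (Iso.comp_inv_eq e).1 (hk.symm.trans ((congrArg (fun t => t⟦(1 : ℤ)⟧') this).trans
      (Functor.map_comp _ _ _))) |>.trans (Category.assoc _ _ _)
  rw [hg']
  exact (congrArg (_ ≫ ·) h2).trans (((Category.assoc _ _ _).symm.trans (congrArg (· ≫ _)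
    (Pretriangulated.comp_distTriang_mor_zero₃₁ _ hT))).trans zero_comp)

/-- Derived completeness in terms of the cohomology in degree zero of the shifts. -/
theorem vanishing_iff (f : A) (K : Dual.D A) :
    (∀ n : ℤ, Subsingleton (Dual.inD A (Localization.Away f) ⟶ K⟦n⟧)) ↔
      ∀ n : ℤ, FComplete f (Dual.HD A (K⟦n⟧) 0) := by
  have hT := (teleS_shortExact f).singleTriangle_distinguished
  let u := (sf A).map (ModuleCat.ofHom (teleMap f))
  let p := (sf A).map (ModuleCat.ofHom (teleProj f))
  constructor
  · intro h n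
    refine FComplete.of_forall (fun x hx => ?_) fun y => ?_
    · obtain ⟨g, rfl⟩ := (bijective_seqOf (K⟦n⟧)).2 x
      have h1 : u ≫ g = 0 := (bijective_seqOf (K⟦n⟧)).1 (funext fun m => by
        rw [seqOf_comp, seqOf_zero, Pi.zero_apply, sub_eq_zero]; exact hx m)
      obtain ⟨g', hg'⟩ := Triangle.yoneda_exact₂ _ hT g h1
      have : g' = 0 := (h n).elim _ _
      rw [hg', this, comp_zero]
      exact seqOf_zero _
    · obtain ⟨g, rfl⟩ := (bijective_seqOf (K⟦n⟧)).2 y
      have hT' := Pretriangulated.inv_rot_of_distTriang _ hT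
      have hs : Subsingleton (((teleS_shortExact f).singleTriangle.invRotate).obj₁ ⟶ K⟦n⟧) := by
        refine ⟨fun a b => (shiftFunctor (Dual.D A) (1 : ℤ)).map_injective ?_⟩
        have := (subsingleton_hom_of_iso ((shiftFunctorAdd' (Dual.D A) n (1 : ℤ) (n + 1) rfl).app K)
          (h (n + 1)))
        refine (cancel_epi ((shiftEquiv (Dual.D A) (1 : ℤ)).counitIso.app
          (Dual.inD A (Localization.Away f))).inv).1 ?_
        exact this.elim _ _
      obtain ⟨g', hg'⟩ := Triangle.yoneda_exact₂ _ hT' g (hs.elim _ _)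
      refine ⟨seqOf _ g', fun m => ?_⟩
      have : seqOf (K⟦n⟧) g m = seqOf (K⟦n⟧) g' m - f • seqOf (K⟦n⟧) g' (m + 1) := by
        rw [hg']
        exact seqOf_comp _ f g' m
      rw [this, sub_add_cancel]
  · exact fun h n => subsingleton_hom_of_fComplete f K n (h n) (h (n - 1))

/-- The cohomology in degree zero of a shift. -/
noncomputable def hdShiftEquiv (K : Dual.D A) (n : ℤ) :
    Dual.HD A (K⟦n⟧) 0 ≃ₗ[A] Dual.HD A K n :=
  (((DerivedCategory.homologyFunctor (ModuleCat.{u} A) 0).shiftIso n 0 n (add_zero n)).app K).toLinearEquiv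

/-- Derived completeness with respect to `f` is a condition on the cohomology modules. -/
theorem vanishing_iff_homology (f : A) (K : Dual.D A) :
    (∀ n : ℤ, Subsingleton (Dual.inD A (Localization.Away f) ⟶ K⟦n⟧)) ↔
      ∀ n : ℤ, FComplete f (Dual.HD A K n) := by
  simp only [vanishing_iff, fun n => fComplete_congr (f := f) (hdShiftEquiv K n)]

theorem isDerivedComplete_iff (I : Ideal A) (K : Dual.D A) :
    DRing.IsDerivedComplete I K ↔ ∀ f ∈ I, ∀ n : ℤ, FComplete f (Dual.HD A K n) :=
  forall_congr' fun f => imp_congr_right fun _ => vanishing_iff_homology f K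

/-- The cohomology of a module placed in degree zero. -/
noncomputable def hdInDZero (M : Type u) [AddCommGroup M] [Module A M] :
    Dual.HD A (Dual.inD A M) 0 ≃ₗ[A] M :=
  ((DerivedCategory.singleFunctorCompHomologyFunctorIso (ModuleCat.{u} A) 0).app
    (ModuleCat.of A M)).toLinearEquiv

theorem isDerivedComplete_inD_iff (I : Ideal A) (M : Type u) [AddCommGroup M] [Module A M] :
    DRing.IsDerivedComplete I (Dual.inD A M) ↔ ∀ f ∈ I, FComplete f M := by
  rw [isDerivedComplete_iff]
  refine ⟨fun h f hf => (h f hf 0).of_linearEquiv (hdInDZero M), fun h f hf n => ?_⟩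
  by_cases hn : n = 0
  · subst hn
    exact (h f hf).of_linearEquiv (hdInDZero M).symm
  · have : IsZero ((DerivedCategory.homologyFunctor (ModuleCat.{u} A) n).obj (Dual.inD A M)) := by
      rcases lt_or_gt_of_ne hn with h' | h'
      · exact DerivedCategory.isZero_of_isGE _ 0 n h'
      · exact DerivedCategory.isZero_of_isLE _ 0 n h'
    haveI := ModuleCat.subsingleton_of_isZero this
    exact FComplete.of_subsingleton

end Groth.Agent.DCompLib
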