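import Mathlib.RingTheory.AdicCompletion.Basic
import Mathlib.Tactic.LinearCombination
import Mathlib.RingTheory.Jacobson.Ideal
import Mathlib.Algebra.Module.Submodule.LinearMap

/-!
# Derived completeness of a module with respect to one element

`FComplete f M` says that for every sequence `y` there is a unique sequence `x` with
`x n = y n + f • x (n + 1)`.
-/

set_option autoImplicit false

universe u v w

namespace Groth.Agent.DCompLib

variable {A : Type u} [CommRing A]

/-- Derived completeness of the module `M` with respect to `f`. -/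
def FComplete (f : A) (M : Type v) [AddCommGroup M] [Module A M] : Prop :=
  Function.Bijective fun (x : ℕ → M) (n : ℕ) => x n - f • x (n + 1)

variable {f g : A} {M : Type v} [AddCommGroup M] [Module A M] {N : Type w} [AddCommGroup N]
  [Module A N]

theorem FComplete.eq_zero (h : FComplete f M) {x : ℕ → M} (hx : ∀ n, x n = f • x (n + 1)) :
    x = 0 :=
  h.1 (funext fun n => by simp [sub_eq_zero, ← hx n])

theorem FComplete.exists_solution (h : FComplete f M) (y : ℕ → M) :
    ∃ x : ℕ → M, ∀ n, x n = y n + f • x (n + 1) := by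
  obtain ⟨x, hx⟩ := h.2 y
  exact ⟨x, fun n => by rw [← hx]; simp⟩

theorem FComplete.unique (h : FComplete f M) {x x' y : ℕ → M}
    (hx : ∀ n, x n = y n + f • x (n + 1)) (hx' : ∀ n, x' n = y n + f • x' (n + 1)) : x = x' :=
  h.1 (funext fun n => by
    change x n - f • x (n + 1) = x' n - f • x' (n + 1)
    rw [hx n, hx' n]; simp)

theorem FComplete.of_forall (h₁ : ∀ x : ℕ → M, (∀ n, x n = f • x (n + 1)) → x = 0)
    (h₂ : ∀ y : ℕ → M, ∃ x : ℕ → M, ∀ n, x n = y n + f • x (n + 1)) : FComplete f M := by
  refine ⟨fun x x' h => sub_eq_zero.1 (h₁ (x - x') fun n => ?_), fun y => ?_⟩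
  · have := congrFun h n
    simp only [Pi.sub_apply, smul_sub] at this ⊢
    rw [sub_eq_sub_iff_sub_eq_sub] at this
    exact this
  · obtain ⟨x, hx⟩ := h₂ y
    refine ⟨x, funext fun n => ?_⟩
    change x n - f • x (n + 1) = y n
    rw [hx n]; simp

theorem FComplete.of_subsingleton [Subsingleton M] : FComplete f M :=
  ⟨fun _ _ _ => Subsingleton.elim _ _, fun y => ⟨y, Subsingleton.elim _ _⟩⟩

theorem FComplete.of_linearEquiv (e : M ≃ₗ[A] N) (h : FComplete f M) : FComplete f N := by
  refine .of_forall (fun x hx => ?_) fun y => ?_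
  · have := h.eq_zero (x := fun n => e.symm (x n))
      fun n => by rw [← map_smul, ← hx]
    funext n
    simpa using congrArg e (congrFun this n)
  · obtain ⟨x, hx⟩ := h.exists_solution fun n => e.symm (y n)
    exact ⟨fun n => e (x n), fun n => by dsimp only; rw [hx n]; simp⟩

theorem fComplete_congr (e : M ≃ₗ[A] N) : FComplete f M ↔ FComplete f N :=
  ⟨.of_linearEquiv e, .of_linearEquiv e.symm⟩

/-- Scalars acting in the same way give the same condition. -/
theorem fComplete_iff_of_smul {B : Type w} [CommRing B] [Module B M] (b : B)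
    (h : ∀ m : M, f • m = b • m) : FComplete f M ↔ FComplete b M := by
  simp only [FComplete, h]

theorem FComplete.ker (hM : FComplete f M) (hN : FComplete f N) (u : M →ₗ[A] N) :
    FComplete f (LinearMap.ker u) := by
  refine .of_forall (fun x hx => ?_) fun y => ?_
  · have := hM.eq_zero (x := fun n => (x n : M)) fun n => by rw [hx n]; rfl
    funext n
    exact Subtype.ext (congrFun this n)
  · obtain ⟨x, hx⟩ := hM.exists_solution fun n => (y n : M)
    have := hN.eq_zero (x := fun n => u (x n)) fun n => by
      rw [hx n]; simp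
    exact ⟨fun n => ⟨x n, congrFun this n⟩, fun n => Subtype.ext (hx n)⟩

theorem FComplete.range (hM : FComplete f M) (hN : FComplete f N) (u : M →ₗ[A] N) :
    FComplete f (LinearMap.range u) := by
  refine .of_forall (fun x hx => ?_) fun y => ?_
  · have := hN.eq_zero (x := fun n => (x n : N)) fun n => by rw [hx n]; rfl
    funext n
    exact Subtype.ext (congrFun this n)
  · choose m hm using fun n => (y n).2
    obtain ⟨x, hx⟩ := hM.exists_solution m
    exact ⟨fun n => ⟨u (x n), x n, rfl⟩, fun n => Subtype.ext (by
      change u (x n) = (y n : N) + f • u (x (n + 1))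
      rw [hx n, ← hm n]; simp)⟩

theorem FComplete.coker (hM : FComplete f M) (hN : FComplete f N) (u : M →ₗ[A] N) :
    FComplete f (N ⧸ LinearMap.range u) := by
  let q : N →ₗ[A] N ⧸ LinearMap.range u := (LinearMap.range u).mkQ
  have hq : Function.Surjective q := Submodule.mkQ_surjective _
  refine .of_forall (fun x hx => ?_) fun y => ?_
  · choose x' hx' using fun n => hq (x n)
    have : ∀ n, ∃ m, u m = x' n - f • x' (n + 1) := fun n => by
      refine (Submodule.Quotient.mk_eq_zero (LinearMap.range u)).1 ?_
      change q (x' n - f • x' (n + 1)) = 0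
      rw [map_sub, map_smul, hx', hx', hx n, sub_self]
    choose m hm using this
    obtain ⟨z, hz⟩ := hM.exists_solution m
    have := hN.eq_zero (x := fun n => x' n - u (z n)) fun n => by
      rw [hz n, map_add, map_smul, hm, smul_sub]
      abel
    funext n
    rw [← hx' n, Pi.zero_apply]
    exact (Submodule.Quotient.mk_eq_zero _).2 ⟨z n, (sub_eq_zero.1 (congrFun this n)).symm⟩
  · choose y' hy' using fun n => hq (y n)
    obtain ⟨x, hx⟩ := hN.exists_solution y'
    exact ⟨fun n => q (x n), fun n => by dsimp only; rw [hx n, map_add, map_smul, hy']⟩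

theorem FComplete.extension (M₁ : Submodule A M) (h₁ : FComplete f M₁)
    (h₂ : FComplete f (M ⧸ M₁)) : FComplete f M := by
  refine .of_forall (fun x hx => ?_) fun y => ?_
  · have := h₂.eq_zero (x := fun n => M₁.mkQ (x n)) fun n => by rw [← map_smul, ← hx]
    have hm : ∀ n, x n ∈ M₁ := fun n => (Submodule.Quotient.mk_eq_zero _).1 (congrFun this n)
    have := h₁.eq_zero (x := fun n => ⟨x n, hm n⟩) fun n => Subtype.ext (hx n)
    funext n
    exact congrArg Subtype.val (congrFun this n)
  · obtain ⟨z, hz⟩ := h₂.exists_solution fun n => M₁.mkQ (y n)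
    choose z' hz' using fun n => Submodule.mkQ_surjective M₁ (z n)
    have hm : ∀ n, y n - (z' n - f • z' (n + 1)) ∈ M₁ := fun n => by
      refine (Submodule.Quotient.mk_eq_zero _).1 ?_
      change M₁.mkQ _ = 0
      rw [map_sub, map_sub, map_smul, hz', hz', hz n]
      abel
    obtain ⟨w, hw⟩ := h₁.exists_solution fun n => ⟨_, hm n⟩
    refine ⟨fun n => z' n + w n, fun n => ?_⟩
    have := congrArg Subtype.val (hw n)
    simp only [Submodule.coe_add, Submodule.coe_smul] at this
    simp only [this, smul_add]
    abel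

theorem FComplete.pi {ι : Type*} {P : ι → Type v} [∀ i, AddCommGroup (P i)]
    [∀ i, Module A (P i)] (h : ∀ i, FComplete f (P i)) : FComplete f (∀ i, P i) := by
  refine .of_forall (fun x hx => ?_) fun y => ?_
  · funext n i
    exact congrFun ((h i).eq_zero (x := fun n => x n i) fun n => congrFun (hx n) i) n
  · choose x hx using fun i => (h i).exists_solution fun n => y n i
    exact ⟨fun n i => x i n, fun n => funext fun i => hx i n⟩

/-- If `M` is `f`-complete then `1 - f τ` is bijective for every endomorphism `τ` of `M`. -/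
theorem FComplete.bijective_one_sub (h : FComplete f M) (τ : M →ₗ[A] M) :
    Function.Bijective fun m => m - f • τ m := by
  refine ⟨fun a b hab => ?_, fun y => ?_⟩
  · have key : ∀ m, m = f • τ m → m = 0 := fun m hm => by
      refine congrFun (h.eq_zero (x := fun k => (τ ^ k) m) fun k => ?_) 0
      conv_lhs => rw [hm]
      rw [map_smul, pow_succ, Module.End.mul_apply]
    refine sub_eq_zero.1 (key _ ?_)
    simp only at hab
    rw [map_sub, smul_sub]
    exact sub_eq_sub_iff_sub_eq_sub.1 hab
  · obtain ⟨x, hx⟩ := h.exists_solution fun k => (τ ^ k) y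
    have hτ : (fun k => τ (x k)) = fun k => x (k + 1) := by
      refine h.unique (y := fun k => (τ ^ (k + 1)) y) (fun k => ?_) fun k => hx (k + 1)
      conv_lhs => rw [hx k]
      rw [map_add, map_smul, pow_succ', Module.End.mul_apply]
    refine ⟨x 0, ?_⟩
    change x 0 - f • τ (x 0) = y
    rw [congrFun hτ 0]
    conv_lhs => arg 1; rw [hx 0]
    simp

variable (A M) in
/-- The shift of sequences. -/
def shiftSeq : (ℕ → M) →ₗ[A] (ℕ → M) := LinearMap.funLeft A M (· + 1)

theorem fComplete_iff_isUnit :
    FComplete f M ↔ IsUnit (1 - f • shiftSeq A M) := by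
  rw [Module.End.isUnit_iff]
  rfl

theorem isUnit_one_sub_smul (h : FComplete f M) (τ : (ℕ → M) →ₗ[A] (ℕ → M)) :
    IsUnit (1 - f • τ) := by
  rw [Module.End.isUnit_iff]
  exact (FComplete.pi fun _ : ℕ => h).bijective_one_sub τ

theorem FComplete.mul_left (h : FComplete f M) (a : A) : FComplete (a * f) M := by
  rw [fComplete_iff_isUnit, mul_comm, mul_smul]
  exact isUnit_one_sub_smul h (a • shiftSeq A M)

theorem FComplete.zero : FComplete (0 : A) M := by
  rw [fComplete_iff_isUnit, zero_smul, sub_zero]
  exact isUnit_one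

theorem FComplete.add (hf : FComplete f M) (hg : FComplete g M) : FComplete (f + g) M := by
  rw [fComplete_iff_isUnit]
  obtain ⟨u, hu⟩ := fComplete_iff_isUnit.1 hf
  let σ := shiftSeq A M
  have : (1 : Module.End A (ℕ → M)) - (f + g) • σ = u * (1 - g • ((↑u⁻¹ : Module.End A (ℕ → M)) * σ)) := by
    rw [mul_sub, mul_one, hu, mul_smul_comm, ← mul_assoc, ← hu, Units.mul_inv, one_mul, add_smul, hu]
    abel
  rw [this]
  exact u.isUnit.mul (isUnit_one_sub_smul hg _)

theorem FComplete.of_pow {n : ℕ} (h : FComplete (f ^ n) M) : FComplete f M := by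
  rw [fComplete_iff_isUnit]
  have h' := isUnit_one_sub_smul h (shiftSeq A M ^ n)
  rw [← smul_pow, ← mul_neg_geom_sum] at h'
  have hc : Commute ((1 : Module.End A (ℕ → M)) - f • shiftSeq A M)
      (∑ i ∈ Finset.range n, (f • shiftSeq A M) ^ i) :=
    Commute.sum_right _ _ _ fun i _ =>
      ((Commute.one_left _).sub_left ((Commute.refl _).pow_right i))
  exact (hc.isUnit_mul_iff.1 h').1

/-- The elements with respect to which `M` is derived complete. -/
def completeIdeal (A : Type u) [CommRing A] (M : Type v) [AddCommGroup M] [Module A M] : Ideal A where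
  carrier := {f | FComplete f M}
  zero_mem' := .zero
  add_mem' := FComplete.add
  smul_mem' a _ h := h.mul_left a

@[simp] theorem mem_completeIdeal : f ∈ completeIdeal A M ↔ FComplete f M := Iff.rfl

theorem completeIdeal_isRadical : (completeIdeal A M).IsRadical :=
  fun _ ⟨_, hn⟩ => FComplete.of_pow hn

theorem FComplete.subsingleton_of_smul_surjective (h : FComplete f M)
    (hs : ∀ m : M, ∃ m', f • m' = m) : Subsingleton M := by
  refine subsingleton_of_forall_eq 0 fun m => ?_
  choose d hd using hs
  exact congrFun (h.eq_zero (x := fun n => d^[n] m) fun n => by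
    simp only [Function.iterate_succ_apply', hd]) 0

theorem fComplete_of_isAdicComplete {I : Ideal A} [IsAdicComplete I M] (hf : f ∈ I) :
    FComplete f M := by
  have mem : ∀ (k : ℕ) (m : M), f ^ k • m ∈ (I ^ k • ⊤ : Submodule A M) :=
    fun k m => Submodule.smul_mem_smul (Ideal.pow_mem_pow hf k) trivial
  refine .of_forall (fun x hx => ?_) fun y => ?_
  · funext n
    refine IsHausdorff.haus (IsAdicComplete.toIsHausdorff (I := I) (M := M)) _ fun k => ?_
    rw [SModEq.zero]
    suffices ∀ k n, x n = f ^ k • x (n + k) by rw [this k n]; exact mem k _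
    intro k
    induction k with
    | zero => simp
    | succ k ih => intro n; rw [ih n, hx (n + k), smul_smul, ← pow_succ, add_assoc]
  · let s : ℕ → ℕ → M := fun n k => ∑ i ∈ Finset.range k, f ^ i • y (n + i)
    have hs : ∀ n a b, a ≤ b → s n a ≡ s n b [SMOD (I ^ a • ⊤ : Submodule A M)] := fun n a b hab => by
      rw [SModEq.sub_mem, Submodule.sub_mem_iff_left _ (zero_mem _) |>.symm, ← neg_mem_iff]
      simp only [s, sub_zero, neg_sub]
      rw [← Finset.sum_Ico_eq_sub _ hab]
      refine Submodule.sum_mem _ fun i hi => ?_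
      exact (Submodule.smul_mono_left (Ideal.pow_le_pow_right (Finset.mem_Ico.1 hi).1)) (mem i _)
    choose x hx using fun n => IsPrecomplete.prec (I := I) (M := M)
      IsAdicComplete.toIsPrecomplete (f := s n) fun {a b} hab => hs n a b hab
    refine ⟨x, fun n => sub_eq_zero.1 (IsHausdorff.haus (IsAdicComplete.toIsHausdorff (I := I) (M := M)) _ fun k => ?_)⟩
    rw [SModEq.zero]
    have h1 := SModEq.sub_mem.1 (hx n (k + 1))
    have h2 := SModEq.sub_mem.1 (hx (n + 1) k)
    have e : s n (k + 1) = y n + f • s (n + 1) k := by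
      simp only [s, Finset.sum_range_succ', Finset.smul_sum, smul_smul, ← pow_succ', pow_zero,
        one_smul, add_zero, add_comm (y n)]
      congr 1
      refine Finset.sum_congr rfl fun i _ => ?_
      rw [add_assoc, add_comm 1 i]
    have : x n - (y n + f • x (n + 1)) =
        -(s n (k + 1) - x n) + f • (s (n + 1) k - x (n + 1)) := by
      rw [e, smul_sub]; abel
    rw [this]
    exact add_mem (neg_mem ((Submodule.smul_mono_left (Ideal.pow_le_pow_right k.le_succ)) h1))
      (Submodule.smul_mem _ f h2)

theorem le_jacobson_of_fComplete {I : Ideal A} (h : ∀ f ∈ I, FComplete f A) :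
    I ≤ (⊥ : Ideal A).jacobson := fun f hf => by
  rw [Ideal.mem_jacobson_bot]
  intro a
  obtain ⟨b, hb⟩ := ((h f hf).bijective_one_sub ((-a) • LinearMap.id)).2 1
  simp only [LinearMap.smul_apply, LinearMap.id_apply, smul_eq_mul] at hb
  exact IsUnit.of_mul_eq_one b (by linear_combination hb)

end Groth.Agent.DCompLib
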