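import Groth.Agent.DCompLib.FinGen
import Mathlib.RingTheory.PowerSeries.Basic
import Mathlib.RingTheory.PowerSeries.Inverse
import Mathlib.RingTheory.PowerSeries.Ideal
import Mathlib.RingTheory.Filtration

/-!
# The action of power series on derived complete modules
-/

set_option autoImplicit false
set_option linter.style.haveILetI false

universe u v

open PowerSeries

namespace Groth.Agent.DCompLib

variable {B : Type u} [CommRing B] {M : Type v} [AddCommGroup M] [Module B M] {f : B}

/-- Deleting the constant term. -/
noncomputable def psShift (s : B⟦X⟧) : B⟦X⟧ := PowerSeries.mk fun i => coeff (i + 1) s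

theorem eq_C_add_X_mul (s : B⟦X⟧) : s = C (constantCoeff s) + X * psShift s := by
  ext (_ | n) <;> simp [psShift, coeff_succ_X_mul]

theorem psShift_C_add_X_mul (c : B) (s : B⟦X⟧) : psShift (C c + X * s) = s := by
  ext n
  simp [psShift, coeff_succ_X_mul, coeff_C]

theorem psShift_add (s t : B⟦X⟧) : psShift (s + t) = psShift s + psShift t := by
  ext n
  simp [psShift]

/-- `s • m = ∑ sₖ fᵏ m`. -/
noncomputable def psSmul (h : FComplete f M) (s : B⟦X⟧) (m : M) : M :=
  (h.exists_solution fun n => coeff n s • m).choose 0

theorem psSmul_eq (h : FComplete f M) (s : B⟦X⟧) (m : M) :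
    psSmul h s m = constantCoeff s • m + f • psSmul h (psShift s) m := by
  have h1 := (h.exists_solution fun n => coeff n s • m).choose_spec
  have h2 := (h.exists_solution fun n => coeff n (psShift s) • m).choose_spec
  have e := h.unique (x := fun n => (h.exists_solution fun n => coeff n s • m).choose (n + 1))
    (fun n => h1 (n + 1)) (x' := (h.exists_solution fun n => coeff n (psShift s) • m).choose)
    fun n => by simpa [psShift] using h2 n
  rw [psSmul, h1 0, ← coeff_zero_eq_constantCoeff_apply]
  exact congrArg (fun z => coeff 0 s • m + f • z) (congrFun e 0)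

/-- Uniqueness of the action. -/
theorem psSmul_unique (h : FComplete f M) (m : M) (φ : B⟦X⟧ → M)
    (hφ : ∀ s, φ s = constantCoeff s • m + f • φ (psShift s)) (s : B⟦X⟧) : φ s = psSmul h s m := by
  have e := h.unique (x := fun n => φ (psShift^[n] s)) (x' := fun n => psSmul h (psShift^[n] s) m)
    (y := fun n => constantCoeff (psShift^[n] s) • m)
    (fun n => by
      have := hφ (psShift^[n] s)
      simpa only [Function.iterate_succ_apply'] using this)
    fun n => by
      have := psSmul_eq h (psShift^[n] s) m
      simpa only [Function.iterate_succ_apply'] using this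
  exact congrFun e 0

theorem psSmul_add (h : FComplete f M) (s : B⟦X⟧) (m m' : M) :
    psSmul h s (m + m') = psSmul h s m + psSmul h s m' := by
  refine (psSmul_unique h (m + m') (fun s => psSmul h s m + psSmul h s m') (fun t => ?_) s).symm
  simp only [psSmul_eq h t, smul_add]
  abel

theorem add_psSmul (h : FComplete f M) (s t : B⟦X⟧) (m : M) :
    psSmul h (s + t) m = psSmul h s m + psSmul h t m := by
  have e := h.unique (x := fun n => psSmul h (psShift^[n] s + psShift^[n] t) m)
    (x' := fun n => psSmul h (psShift^[n] s) m + psSmul h (psShift^[n] t) m)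
    (y := fun n => constantCoeff (psShift^[n] s + psShift^[n] t) • m)
    (fun n => by
      simp only [Function.iterate_succ_apply', ← psShift_add]
      exact psSmul_eq h _ m)
    fun n => by
      simp only [Function.iterate_succ_apply', map_add, add_smul, smul_add]
      rw [psSmul_eq h (psShift^[n] s) m, psSmul_eq h (psShift^[n] t) m]
      abel
  exact congrFun e 0

theorem smul_psSmul (h : FComplete f M) (c : B) (s : B⟦X⟧) (m : M) :
    psSmul h s (c • m) = c • psSmul h s m := by
  refine (psSmul_unique h (c • m) (fun s => c • psSmul h s m) (fun t => ?_) s).symm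
  simp only [psSmul_eq h t, smul_add, smul_comm c]

theorem psSmul_C (h : FComplete f M) (c : B) (m : M) : psSmul h (C c) m = c • m := by
  have h0 : ∀ m : M, psSmul h 0 m = 0 := fun m => by
    have := add_psSmul h 0 0 m
    rwa [add_zero, eq_comm, add_eq_left] at this
  have e : psShift (C c) = (0 : B⟦X⟧) := by ext n; simp [psShift, coeff_C]
  rw [psSmul_eq, e, h0, smul_zero, add_zero, constantCoeff_C]

theorem psSmul_X_mul (h : FComplete f M) (s : B⟦X⟧) (m : M) :
    psSmul h (X * s) m = f • psSmul h s m := by
  have e : psShift (X * s) = s := by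
    simpa using psShift_C_add_X_mul 0 s
  rw [psSmul_eq, e]
  simp

theorem psSmul_C_mul (h : FComplete f M) (c : B) (s : B⟦X⟧) (m : M) :
    psSmul h (C c * s) m = c • psSmul h s m := by
  have e : ∀ t : B⟦X⟧, psShift (C c * t) = C c * psShift t := fun t => by ext n; simp [psShift]
  rw [← smul_psSmul]
  refine psSmul_unique h (c • m) (fun t => psSmul h (C c * t) m) (fun t => ?_) s
  conv_lhs => rw [psSmul_eq]
  rw [e, map_mul, constantCoeff_C, mul_smul, smul_comm c]

theorem psSmul_mul (h : FComplete f M) (s t : B⟦X⟧) (m : M) :
    psSmul h (s * t) m = psSmul h s (psSmul h t m) := by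
  refine psSmul_unique h (psSmul h t m) (fun s => psSmul h (s * t) m) (fun s => ?_) s
  conv_lhs => rw [eq_C_add_X_mul s, add_mul, mul_assoc, add_psSmul, psSmul_C_mul, psSmul_X_mul]

/-- The action of power series in one variable, the variable acting by `f`. -/
@[reducible]
noncomputable def psModule (h : FComplete f M) : Module B⟦X⟧ M where
  smul := psSmul h
  one_smul m := by
    change psSmul h 1 m = m
    rw [← map_one (C : B →+* B⟦X⟧), psSmul_C, one_smul]
  mul_smul s t m := psSmul_mul h s t m
  smul_zero s := by
    have := smul_psSmul h 0 s (0 : M)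
    rw [zero_smul, zero_smul] at this
    exact this
  smul_add s m m' := psSmul_add h s m m'
  add_smul s t m := add_psSmul h s t m
  zero_smul m := by
    change psSmul h 0 m = 0
    rw [← map_zero (C : B →+* B⟦X⟧), psSmul_C, zero_smul]

theorem mem_jacobson_X : (X : B⟦X⟧) ∈ (⊥ : Ideal B⟦X⟧).jacobson := by
  rw [Ideal.mem_jacobson_bot]
  intro y
  rw [isUnit_iff_constantCoeff]
  simp

theorem mem_jacobson_C {b : B} (hb : b ∈ (⊥ : Ideal B).jacobson) :
    C b ∈ (⊥ : Ideal B⟦X⟧).jacobson := by
  rw [Ideal.mem_jacobson_bot] at hb ⊢
  intro y
  rw [isUnit_iff_constantCoeff]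
  simpa using hb (constantCoeff y)

theorem sum_smul_eq {b : B} (l : List B) (u v w : B → M) (h : ∀ g ∈ l, u g = v g + b • w g) :
    (l.map fun g => g • u g).sum = (l.map fun g => g • v g).sum + b • (l.map fun g => g • w g).sum := by
  induction l with
  | nil => simp
  | cons g l ih =>
    simp only [List.map_cons, List.sum_cons, smul_add]
    rw [ih fun g' hg' => h g' (List.mem_cons_of_mem _ hg'), h g (List.mem_cons_self ..), smul_add,
      smul_comm g b]
    abel

/-- Finiteness modulo derived complete elements gives finiteness over a power series ring. -/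
theorem exists_finite_powerSeries (l : List B) :
    ∀ {B : Type u} [CommRing B] [IsNoetherianRing B] (l' : List B) (_ : l'.length = l.length)
      {M : Type v} [AddCommGroup M] [Module B M] (_ : ∀ b ∈ l', FComplete b M)
      (n : ℕ) (e : Fin n → M)
      (_ : ∀ m : M, ∃ (c : Fin n → B) (z : B → M),
        m = (∑ i, c i • e i) + (l'.map fun b => b • z b).sum),
      ∃ (C' : Type u) (_ : CommRing C') (_ : IsNoetherianRing C') (_ : Module C' M) (ι : B →+* C'),
        Module.Finite C' M ∧ (∀ b, ∀ m : M, ι b • m = b • m) ∧
          (∀ b ∈ l', ∃ c ∈ (⊥ : Ideal C').jacobson, ∀ m : M, c • m = b • m) ∧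
          ∀ b ∈ (⊥ : Ideal B).jacobson, ι b ∈ (⊥ : Ideal C').jacobson := by
  induction l with
  | nil =>
    intro B _ _ l' hl M _ _ _ n e he
    classical
    obtain rfl := List.length_eq_zero_iff.1 hl
    refine ⟨B, inferInstance, inferInstance, inferInstance, RingHom.id B,
      ⟨⟨Finset.univ.image e, ?_⟩⟩, fun b m => rfl, by simp, fun b hb => hb⟩
    rw [eq_top_iff]
    rintro m -
    obtain ⟨c, z, rfl⟩ := he m
    simp only [List.map_nil, List.sum_nil, add_zero]
    exact Submodule.sum_mem _ fun i _ => Submodule.smul_mem _ _ (Submodule.subset_span (by simp))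
  | cons _ l ih =>
    intro B _ _ l' hl M _ _ hc n e he
    obtain ⟨b, l', rfl⟩ : ∃ b l'', l' = b :: l'' := by
      cases l' with
      | nil => simp at hl
      | cons b l'' => exact ⟨b, l'', rfl⟩
    have hb := hc b (List.mem_cons_self ..)
    letI := psModule hb
    have hC : ∀ (c : B) (m : M), (C c : B⟦X⟧) • m = c • m := fun c m => psSmul_C hb c m
    have hX : ∀ m : M, (X : B⟦X⟧) • m = b • m := fun m => by
      change psSmul hb X m = b • m
      have := psSmul_X_mul hb 1 m
      rw [mul_one] at this
      rw [this, ← map_one (C : B →+* B⟦X⟧), psSmul_C, one_smul]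
    obtain ⟨C', i1, i2, i3, ι, hfin, hι, hl', hj⟩ := ih (B := B⟦X⟧) (l'.map C)
      (by simpa using Nat.succ.inj hl) (M := M)
      (by
        intro s hs
        obtain ⟨g, hg, rfl⟩ := List.mem_map.1 hs
        exact (fComplete_iff_of_smul g (hC g)).2 (hc g (List.mem_cons_of_mem _ hg)))
      n e (fun m => by
        choose cc zz hcz using he
        let ms : ℕ → M := fun k => (fun m => zz m b)^[k] m
        let s : Fin n → B⟦X⟧ := fun i => PowerSeries.mk fun k => cc (ms k) i
        have hy : ∀ g ∈ l', ∃ x : ℕ → M, ∀ k, x k = zz (ms k) g + b • x (k + 1) :=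
          fun g _ => hb.exists_solution _
        choose! x hx using hy
        refine ⟨s, fun t => x (constantCoeff t) 0, ?_⟩
        have key := hb.unique (y := fun k => (∑ i, cc (ms k) i • e i) +
            (l'.map fun g => g • zz (ms k) g).sum)
          (x := ms) (x' := fun k => (∑ i, psSmul hb (psShift^[k] (s i)) (e i)) +
            (l'.map fun g => g • x g k).sum)
          (fun k => by
            have := hcz (ms k)
            simp only [List.map_cons, List.sum_cons] at this
            conv_lhs => rw [this]
            have hms : ms (k + 1) = zz (ms k) b := by simp [ms, Function.iterate_succ_apply']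
            rw [hms]
            abel)
          (fun k => by
            have h1 : ∀ i, constantCoeff (psShift^[k] (s i)) = cc (ms k) i := fun i => by
              have : ∀ (j : ℕ) (t : B⟦X⟧), constantCoeff (psShift^[j] t) = coeff j t := by
                intro j
                induction j with
                | zero => intro t; simp
                | succ j ihj => intro t; rw [Function.iterate_succ_apply, ihj]; simp [psShift]
              simp [this, s]
            have h2 : (l'.map fun g => g • x g k).sum =
                (l'.map fun g => g • zz (ms k) g).sum + b • (l'.map fun g => g • x g (k + 1)).sum := by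
              exact sum_smul_eq l' _ _ _ fun g hg => hx g hg k
            simp only [Function.iterate_succ_apply', h2]
            simp only [psSmul_eq hb (psShift^[k] _), h1, Finset.sum_add_distrib, smul_add,
              Finset.smul_sum]
            abel)
        have := congrFun key 0
        simp only [ms, Function.iterate_zero_apply] at this
        refine this.trans ?_
        rw [List.map_map]
        refine congrArg₂ (· + ·) rfl (congrArg List.sum (List.map_congr_left fun g _ => ?_))
        simp only [Function.comp_apply, constantCoeff_C, hC])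
    refine ⟨C', i1, i2, i3, ι.comp C, hfin, fun c m => (hι (C c) m).trans (hC c m), fun g hg => ?_,
      fun c hc => hj _ (mem_jacobson_C hc)⟩
    rcases List.mem_cons.1 hg with rfl | hg
    · exact ⟨ι X, hj _ mem_jacobson_X, fun m => (hι X m).trans (hX m)⟩
    · obtain ⟨c, hc1, hc2⟩ := hl' (C g) (List.mem_map_of_mem hg)
      exact ⟨c, hc1, fun m => (hc2 m).trans (hC g m)⟩

end Groth.Agent.DCompLib
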